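import Cfsg.Agent.SchmidtUniv.Proj
import Mathlib.Algebra.CharP.Frobenius
import Mathlib.Algebra.Group.ULift

/-!
# The universal minimal non-`p`-nilpotent group with a given `q`-part
-/

namespace Cfsg.Agent.SchmidtUniv

open Subgroup
open scoped commutatorElement

universe v

variable {p q a r n : ℕ} {K : Type} [Field K] {u : Kˣ} {hu : u ^ n = 1}

theorem exists_fieldData (hp : p.Prime) (hq : q.Prime) (hne : p ≠ q) :
    ∃ (K : Type) (_ : Field K) (u : Kˣ), FieldData p q (orderOf (p : ZMod q)) K (u : K) := by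
  have := Fact.mk hp
  have := Fact.mk hq
  set a := orderOf (p : ZMod q)
  have ha := orderOf_pos_of_ne hp hq hne
  refine ⟨GaloisField p a, inferInstance, ?_⟩
  have hc := GaloisField.card p a ha.ne'
  have hdvd : q ∣ Nat.card (GaloisField p a)ˣ := by
    rw [Nat.card_units, hc]
    have h1 : ((p ^ a : ℕ) : ZMod q) = ((1 : ℕ) : ZMod q) := by
      push_cast; exact pow_orderOf_eq_one _
    exact (Nat.modEq_iff_dvd' (Nat.one_le_pow _ _ hp.pos)).mp
      ((ZMod.natCast_eq_natCast_iff _ _ _).mp h1).symm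
  obtain ⟨u, hu⟩ := exists_prime_orderOf_dvd_card' q hdvd
  exact ⟨u, hp, hq, hne, rfl, hc, by rw [orderOf_units, hu]⟩

/-- The cocycle: its antisymmetrisation takes every value. -/
theorem exists_cocycle (d : FieldData p q a K (u : K)) :
    ∃ (Z : Type) (_ : AddCommGroup Z) (_ : Finite Z) (β : K →+ K →+ Z),
      (∀ v w, β ((u : K) * v) ((u : K) * w) = β v w) ∧ (∀ z : Z, ∃ v w, β v w - β w v = z) ∧
      (∀ z : Z, p • z = 0) ∧ p ^ (if a % 2 = 1 then 0 else a / 2) ≤ Nat.card Z := by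
  have := d.finite
  have := Fintype.ofFinite K
  have := Fact.mk d.hp
  have := Fact.mk d.hq
  have : CharP K p := charP_of_card_eq_prime_pow (f := a) (by rw [Fintype.card_eq_nat_card, d.hcard])
  by_cases ho : a % 2 = 1
  · exact ⟨PUnit, inferInstance, inferInstance, 0, fun _ _ => rfl, fun z => ⟨0, 0, rfl⟩, fun _ => rfl,
      by simp [if_pos ho]⟩
  rw [if_neg ho]
  have ha2 : a / 2 + a / 2 = a := by omega
  have ha0 : a / 2 ≠ 0 := by have := d.a_pos; omega
  set s := p ^ (a / 2) with hs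
  have hs1 : 1 < s := Nat.one_lt_pow ha0 d.hp.one_lt
  have hmone : (p : ZMod q) ^ (a / 2) = -1 := by
    refine (mul_self_eq_one_iff.mp ?_).resolve_left fun h => ?_
    · rw [← pow_add, ha2, d.ha]; exact pow_orderOf_eq_one _
    · have h' := orderOf_dvd_of_pow_eq_one h
      rw [← d.ha] at h'
      have := Nat.le_of_dvd (Nat.pos_of_ne_zero ha0) h'
      omega
  have hq2 : q ≠ 2 := fun h => by
    subst h
    have h2 : ((p : ℕ) : ZMod 2) = 1 :=
      ZMod.natCast_eq_one_iff_odd.mpr (d.hp.odd_of_ne_two d.hne)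
    rw [d.ha, h2, orderOf_one] at ho
    exact ho rfl
  have hus : (u : K) ^ s * (u : K) = 1 := by
    have h1 : ((s + 1 : ℕ) : ZMod q) = 0 := by push_cast [hs]; rw [hmone, neg_add_cancel]
    rw [← pow_succ]
    exact orderOf_dvd_iff_pow_eq_one.mp (d.hlam ▸ (ZMod.natCast_eq_zero_iff _ _).mp h1)
  let σ : K →+* K := iterateFrobenius K p (a / 2)
  have hσ : ∀ x : K, σ x = x ^ s := fun x => iterateFrobenius_def p (a / 2) x
  have hσσ : ∀ x, σ (σ x) = x := fun x => by
    rw [hσ, hσ, ← pow_mul, hs, ← pow_add, ha2, ← d.hcard, Nat.card_eq_fintype_card,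
      FiniteField.pow_card]
  have hne : (u : K) - (u : K)⁻¹ ≠ 0 := fun h => by
    have h1 : (u : K) ^ 2 = 1 := by
      rw [sub_eq_zero] at h
      rw [pow_two]; nth_rw 2 [h]
      exact mul_inv_cancel₀ u.ne_zero
    exact hq2 ((Nat.prime_dvd_prime_iff_eq d.hq Nat.prime_two).mp (d.hlam ▸ orderOf_dvd_of_pow_eq_one h1))
  let tr : K →+ K := AddMonoidHom.id K + σ.toAddMonoidHom
  have htr : ∀ x, tr x = x + σ x := fun x => rfl
  have htrσ : ∀ x, tr.rangeRestrict (σ x) = tr.rangeRestrict x := fun x =>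
    Subtype.ext (by simp only [AddMonoidHom.coe_rangeRestrict, htr, hσσ, add_comm])
  let β : K →+ K →+ tr.range := AddMonoidHom.mk' (fun v => AddMonoidHom.mk'
    (fun w => tr.rangeRestrict ((u : K) * v * σ w))
    fun w w' => by rw [map_add, mul_add, map_add]) fun v v' => by
      ext w; simp only [AddMonoidHom.mk'_apply, AddMonoidHom.add_apply, mul_add, add_mul, map_add]
  have hβ : ∀ v w, β v w = tr.rangeRestrict ((u : K) * v * σ w) := fun v w => rfl
  refine ⟨tr.range, inferInstance, inferInstance, β, fun v w => ?_, fun z => ?_, fun z => ?_, ?_⟩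
  · rw [hβ, hβ, map_mul σ, hσ (u : K)]
    congr 1
    linear_combination (u : K) * v * σ w * hus
  · obtain ⟨z, x, rfl⟩ := z
    refine ⟨((u : K) - (u : K)⁻¹)⁻¹ * x, 1, ?_⟩
    have hσu : σ (u : K) = (u : K)⁻¹ := by rw [hσ]; exact eq_inv_of_mul_eq_one_left hus
    rw [hβ, hβ, map_one, mul_one, mul_one, ← htrσ ((u : K) * σ _), map_mul σ, hσσ, hσu, ← map_sub,
      ← sub_mul, ← mul_assoc, mul_inv_cancel₀ hne, one_mul]
    rfl
  · refine Subtype.ext ?_
    rw [AddSubgroup.coe_nsmul, AddSubgroup.coe_zero, nsmul_eq_mul, CharP.cast_eq_zero, zero_mul]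
  · have hle : Nat.card tr.ker ≤ s := by
      classical
      have hf0 : (Polynomial.X ^ s + Polynomial.X : Polynomial K) ≠ 0 := fun h => by
        simpa [Polynomial.coeff_X, show (1 : ℕ) ≠ s by omega] using
          congrArg (Polynomial.coeff · 1) h
      have hroots : ∀ x : tr.ker, (x : K) ∈ (Polynomial.X ^ s + Polynomial.X : Polynomial K).roots.toFinset :=
        fun x => by
          rw [Multiset.mem_toFinset, Polynomial.mem_roots hf0]
          have hx := x.2
          rw [AddMonoidHom.mem_ker, htr, hσ] at hx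
          simp [add_comm, hx]
      refine (Nat.card_le_card_of_injective (fun x : tr.ker => (⟨x, hroots x⟩ :
        ((Polynomial.X ^ s + Polynomial.X : Polynomial K).roots.toFinset : Set K))) fun x y h =>
          Subtype.ext (congrArg (fun z : ((Polynomial.X ^ s + Polynomial.X : Polynomial K).roots.toFinset : Set K) =>
            (z : K)) h)).trans ?_
      rw [Nat.card_coe_set_eq, Set.ncard_coe_finset]
      refine (Multiset.toFinset_card_le _).trans ((Polynomial.card_roots' _).trans ?_)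
      refine (Polynomial.natDegree_add_le _ _).trans (max_le ?_ ?_)
      · rw [Polynomial.natDegree_X_pow]
      · rw [Polynomial.natDegree_X]; omega
    have hc : Nat.card tr.ker * Nat.card tr.range = s * s := by
      rw [← AddSubgroup.index_ker, AddSubgroup.card_mul_index, d.hcard, hs, ← pow_add, ha2]
    have hpos : 0 < Nat.card tr.range := Nat.card_pos
    exact Nat.le_of_mul_le_mul_left (hc ▸ Nat.mul_le_mul_right _ hle) (by omega)

theorem card_eq_of_surjective {M N : Type*} [Group M] [Group N] (f : M →* N) (h : Function.Surjective f) :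
    Nat.card M = Nat.card f.ker * Nat.card N := by
  rw [← card_mul_index f.ker, index_ker, MonoidHom.range_eq_top.mpr h, card_top]

/-- A central `p`-extension of `K ⋊ Z/q^r` without proper supplement to the kernel is minimal
non-`p`-nilpotent. -/
theorem minimal_of_central (d : FieldData p q a K (u : K)) (hn : n = q ^ r) {M : Type v} [Group M]
    [Finite M] (π : M →* Base u n hu) (hs : Function.Surjective π) (hc : π.ker ≤ center M)
    (hk : IsPGroup p π.ker) (hmin : ∀ H : Subgroup M, H.map π = ⊤ → H = ⊤) :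
    (¬ HasNormalPComplement p M ∧ ∀ H : Subgroup M, H ≠ ⊤ → HasNormalPComplement p H) ∧
      ∃ t, Nat.card M = p ^ t * q ^ r := by
  have := Fact.mk d.hp
  have := d.finite
  have : NeZero n := ⟨hn ▸ (pow_pos d.hq.pos r).ne'⟩
  refine ⟨⟨not_hasNormalPComplement d hn π hs hk, fun H hH =>
    hasNormalPComplement_of_map_ne_top d hn π hc H fun h => hH (hmin H h)⟩, ?_⟩
  obtain ⟨m, hm⟩ := hk.exists_card_eq
  exact ⟨m + a, by rw [card_eq_of_surjective π hs, hm, base_card, d.hcard, hn, pow_add, mul_assoc]⟩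

/-- The universal group. -/
theorem exists_universal (d : FieldData p q a K (u : K)) (hr : 1 ≤ r) :
    ∃ (G₀ : Type v) (_ : Group G₀) (_ : Finite G₀),
      (¬ HasNormalPComplement p G₀ ∧ ∀ H : Subgroup G₀, H ≠ ⊤ → HasNormalPComplement p H) ∧
      Nat.card G₀ = p ^ (a + if a % 2 = 1 then 0 else a / 2) * q ^ r ∧
      ∀ (X : Type v) [Group X] [Finite X],
        (¬ HasNormalPComplement p X ∧ ∀ H : Subgroup X, H ≠ ⊤ → HasNormalPComplement p H) →
        (∃ t : ℕ, Nat.card X = p ^ t * q ^ r) →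
          ∃ φ : G₀ →* X, Function.Surjective φ ∧ φ.ker ≤ center G₀ := by
  have := Fact.mk d.hp
  have := d.finite
  set n := q ^ r with hn
  have : NeZero n := ⟨(pow_pos d.hq.pos r).ne'⟩
  have hu : u ^ n = 1 := by
    refine orderOf_dvd_iff_pow_eq_one.mp ?_
    rw [← orderOf_units, d.hlam]; exact dvd_pow_self q (by omega)
  obtain ⟨Z, _, _, β, hinv, hgen, hpz, hZ⟩ := exists_cocycle d
  let G : Type := Cover β u n hu hinv
  let G₀ : Type v := ULift.{v} (Cover β u n hu hinv)
  have : Finite (Cover β u n hu hinv) := Finite.of_equiv _ SemidirectProduct.equivProd.symm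
  let π₀ : G₀ →* Base u n hu := (coverProj β u n hu hinv).comp MulEquiv.ulift.toMonoidHom
  have hs₀ : Function.Surjective π₀ :=
    (coverProj_surjective β u n hu hinv).comp MulEquiv.ulift.surjective
  have hc₀ : π₀.ker ≤ center G₀ := fun g hg => mem_center_iff.mpr fun x =>
    ULift.ext _ _ (mem_center_iff.mp (coverProj_ker_le β u n hu hinv (x := g.down) hg) x.down)
  have hk₀ : IsPGroup p π₀.ker := fun g => ⟨1, by
    rw [pow_one]
    refine Subtype.ext (ULift.ext _ _ ?_)
    obtain ⟨⟨g⟩, hg⟩ := g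
    have h1 : g.left.fst = 0 := congrArg Multiplicative.toAdd (congrArg SemidirectProduct.left hg)
    have h2 : g.right = 1 := (congrArg SemidirectProduct.right hg :)
    have hg' : g = SemidirectProduct.inl ⟨0, g.left.snd⟩ := SemidirectProduct.ext (Ext.ext h1 rfl) h2
    have hz : ∀ (z : Z) (k : ℕ), (⟨0, z⟩ : Ext β) ^ k = ⟨0, k • z⟩ := fun z k => by
      induction k with
      | zero => ext <;> simp
      | succ k ih => rw [pow_succ, ih]; ext <;> simp [succ_nsmul]
    change g ^ p = 1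
    rw [hg', ← map_pow, hz, hpz]
    rfl⟩
  have hmin₀ : ∀ H : Subgroup G₀, H.map π₀ = ⊤ → H = ⊤ := by
    intro H hH
    have hlift : ∀ v : K, ∃ z : Z, (⟨SemidirectProduct.inl (⟨v, z⟩ : Ext β)⟩ : G₀) ∈ H := fun v => by
      obtain ⟨⟨g⟩, hgH, hg⟩ : (SemidirectProduct.inl (Multiplicative.ofAdd v) : Base u n hu) ∈ H.map π₀ :=
        hH ▸ mem_top _
      have h1 : g.left.fst = v := congrArg Multiplicative.toAdd (congrArg SemidirectProduct.left hg)
      have h2 : g.right = 1 := (congrArg SemidirectProduct.right hg :)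
      refine ⟨g.left.snd, ?_⟩
      have hg' : g = SemidirectProduct.inl ⟨v, g.left.snd⟩ := SemidirectProduct.ext (Ext.ext h1 rfl) h2
      exact hg' ▸ hgH
    have hker : ∀ z : Z, (⟨SemidirectProduct.inl (⟨0, z⟩ : Ext β)⟩ : G₀) ∈ H := fun z => by
      obtain ⟨v, w, rfl⟩ := hgen z
      obtain ⟨zv, hv⟩ := hlift v
      obtain ⟨zw, hw⟩ := hlift w
      convert H.mul_mem (H.mul_mem hv hw) (H.mul_mem (H.inv_mem hv) (H.inv_mem hw)) using 1
      refine ULift.ext _ _ ?_
      change SemidirectProduct.inl _ = SemidirectProduct.inl _ * SemidirectProduct.inl _ *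
        ((SemidirectProduct.inl _)⁻¹ * (SemidirectProduct.inl _)⁻¹)
      simp only [← map_inv, ← map_mul]
      refine congrArg _ (Ext.ext ?_ ?_)
      · simp only [Ext.mul_fst, Ext.inv_fst]; abel
      · simp only [Ext.mul_fst, Ext.inv_fst, Ext.mul_snd, Ext.inv_snd, map_neg, map_add,
          AddMonoidHom.neg_apply, AddMonoidHom.add_apply]
        abel
    refine eq_top_iff.mpr fun g _ => ?_
    obtain ⟨h, hh, hhg⟩ : π₀ g ∈ H.map π₀ := hH ▸ mem_top _
    have hk : h⁻¹ * g ∈ π₀.ker := by rw [MonoidHom.mem_ker, map_mul, map_inv, hhg, inv_mul_cancel]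
    generalize hx : h⁻¹ * g = x at hk
    obtain ⟨x⟩ := x
    have h1 : x.left.fst = 0 := congrArg Multiplicative.toAdd (congrArg SemidirectProduct.left hk)
    have h2 : x.right = 1 := (congrArg SemidirectProduct.right hk :)
    have hxH : (⟨x⟩ : G₀) ∈ H := by
      convert hker x.left.snd using 2
      exact SemidirectProduct.ext (Ext.ext h1 rfl) h2
    rw [← mul_inv_cancel_left h g, hx]
    exact H.mul_mem hh hxH
  obtain ⟨hG₀, t₀, ht₀⟩ := minimal_of_central d hn π₀ hs₀ hc₀ hk₀ hmin₀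
  set c := if a % 2 = 1 then 0 else a / 2
  have hcard₀ : Nat.card G₀ = p ^ (a + c) * q ^ r := by
    obtain ⟨π, hπs, -, -, hπc⟩ := exists_structure d hn hu hr hG₀.1 hG₀.2 ht₀
    have h1 : Nat.card G₀ = Nat.card Z * Nat.card (Base u n hu) := by
      rw [Nat.card_congr Equiv.ulift, SemidirectProduct.card, Ext.card_eq, base_card,
        Nat.card_congr Multiplicative.toAdd, Nat.card_zmod]
      ring
    have h2 := card_eq_of_surjective π hπs
    rw [h1] at h2
    have h3 : Nat.card Z = p ^ c :=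
      le_antisymm (Nat.eq_of_mul_eq_mul_right Nat.card_pos h2 ▸ hπc) hZ
    rw [h1, h3, base_card, d.hcard, hn, pow_add]
    ring
  refine ⟨G₀, inferInstance, inferInstance, hG₀, hcard₀, fun X _ _ hX ⟨t, ht⟩ => ?_⟩
  obtain ⟨πX, hXs, hXc, hXk, -⟩ := exists_structure d hn hu hr hX.1 hX.2 ht
  let f : G₀ × X →* Base u n hu := π₀.comp (MonoidHom.fst G₀ X)
  let f' : G₀ × X →* Base u n hu := πX.comp (MonoidHom.snd G₀ X)
  have hD : (f.eqLocus f').map f = ⊤ := eq_top_iff.mpr fun b _ => by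
    obtain ⟨g, rfl⟩ := hs₀ b
    obtain ⟨x, hx⟩ := hXs (π₀ g)
    exact ⟨(g, x), hx.symm, rfl⟩
  obtain ⟨M, ⟨hMD, hMf⟩, hMmin⟩ := wellFounded_lt.has_min
    {M : Subgroup (G₀ × X) | M ≤ f.eqLocus f' ∧ M.map f = ⊤} ⟨_, le_rfl, hD⟩
  let πM : M →* Base u n hu := f.comp M.subtype
  have hMs : Function.Surjective πM := fun b => by
    obtain ⟨m, hm, rfl⟩ : b ∈ M.map f := hMf ▸ mem_top b
    exact ⟨⟨m, hm⟩, rfl⟩
  have hMk : ∀ m : M, m ∈ πM.ker → (m : G₀ × X).1 ∈ π₀.ker ∧ (m : G₀ × X).2 ∈ πX.ker := fun m hm =>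
    ⟨hm, ((hMD m.2).symm.trans hm :)⟩
  have hMc : πM.ker ≤ center M := fun m hm => mem_center_iff.mpr fun x => Subtype.ext (Prod.ext
    (mem_center_iff.mp (hc₀ (hMk m hm).1) _) (mem_center_iff.mp (hXc (hMk m hm).2) _))
  have hMp : IsPGroup p πM.ker := by
    rintro ⟨m, hm⟩
    obtain ⟨i, hi⟩ := hk₀ ⟨_, (hMk m hm).1⟩
    obtain ⟨j, hj⟩ := hXk ⟨_, (hMk m hm).2⟩
    refine ⟨i + j, Subtype.ext (Subtype.ext (Prod.ext ?_ ?_))⟩
    · have h := congrArg Subtype.val hi
      rw [SubmonoidClass.coe_pow, OneMemClass.coe_one] at h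
      simp [pow_add, pow_mul, h]
    · have h := congrArg Subtype.val hj
      rw [SubmonoidClass.coe_pow, OneMemClass.coe_one] at h
      simp [pow_add, mul_comm (p ^ i), pow_mul, h]
  have hmM : ∀ H : Subgroup M, H.map πM = ⊤ → H = ⊤ := fun H hH => by
    by_contra hne
    refine hMmin (H.map M.subtype) ⟨(map_subtype_le H).trans hMD, by rw [map_map]; exact hH⟩
      (lt_of_le_of_ne (map_subtype_le H) fun e => hne ?_)
    refine map_injective M.subtype_injective ?_
    rw [e, ← MonoidHom.range_eq_map, range_subtype]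
  obtain ⟨hM, tM, htM⟩ := minimal_of_central d hn πM hMs hMc hMp hmM
  obtain ⟨π, hπs, -, -, hπc⟩ := exists_structure d hn hu hr hM.1 hM.2 htM
  let ψ : M →* G₀ := (MonoidHom.fst G₀ X).comp M.subtype
  have hψs : Function.Surjective ψ := MonoidHom.range_eq_top.mp (hmin₀ _ (by
    rw [MonoidHom.map_range]; exact MonoidHom.range_eq_top.mpr hMs))
  have hle : Nat.card M ≤ Nat.card G₀ := by
    rw [card_eq_of_surjective π hπs, hcard₀, base_card, d.hcard, ← hn, pow_add,
      mul_comm (p ^ a) (p ^ c), mul_assoc]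
    exact Nat.mul_le_mul_right _ hπc
  let ι : M ≃* G₀ := MulEquiv.ofBijective ψ (hψs.bijective_of_nat_card_le hle)
  let φ : M →* X := (MonoidHom.snd G₀ X).comp M.subtype
  have hφs : Function.Surjective φ := by
    refine MonoidHom.range_eq_top.mp ?_
    by_contra hne
    refine not_hasNormalPComplement d hn (πX.comp φ.range.subtype) (fun b => ?_)
      (fun x => ?_) (hX.2 _ hne)
    · obtain ⟨m, rfl⟩ := hMs b
      exact ⟨⟨φ m, m, rfl⟩, (hMD m.2).symm⟩
    · obtain ⟨k, hk⟩ := hXk ⟨_, x.2⟩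
      exact ⟨k, Subtype.ext (Subtype.ext (by simpa using congrArg Subtype.val hk))⟩
  refine ⟨φ.comp ι.symm.toMonoidHom, hφs.comp ι.symm.surjective, fun g hg => hc₀ ?_⟩
  have h1 : (ι.symm g : G₀ × X).1 = g := ι.apply_symm_apply g
  have h2 : (ι.symm g : G₀ × X).2 = 1 := hg
  rw [MonoidHom.mem_ker, ← h1]
  exact (hMD (ι.symm g).2).trans ((congrArg πX h2).trans (map_one πX))

end Cfsg.Agent.SchmidtUniv
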