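import Cfsg.Agent.S0132
import Cfsg.Agent.Core.Frattini
import Cfsg.Agent.Core.Basics
import Cfsg.Agent.Fusion.Frobenius
import Cfsg.Agent.Fusion.PGroup
import Mathlib.GroupTheory.Abelianization.Defs

/-!
# Structure of a minimal non-`p`-nilpotent group of order `p ^ t * q ^ r`
-/

namespace Cfsg.Agent.SchmidtUniv

open Subgroup
open scoped commutatorElement

universe v

/-- A minimal non-`p`-nilpotent group split as `P⟨y⟩`. -/
structure Split (p q r : ℕ) (X : Type v) [Group X] (P : Subgroup X) (y : X) : Prop where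
  normal : P.Normal
  isP : IsPGroup p P
  order : orderOf y = q ^ r
  sup : P ⊔ zpowers y = ⊤
  proper : ∀ R : Subgroup X, R ≤ P → (∀ x ∈ R, y * x * y⁻¹ ∈ R) → R ≠ P → ∀ x ∈ R, y * x = x * y
  pow_q : ∀ x ∈ P, y ^ q * x = x * y ^ q
  moved : ∃ x ∈ P, y * x ≠ x * y

variable {p q r t : ℕ} {X : Type v} [Group X] [Finite X]

theorem exists_split [Fact p.Prime] (hq : q.Prime) (hpq : p ≠ q) (hr : 1 ≤ r)
    (h1 : ¬ HasNormalPComplement p X) (h2 : ∀ H : Subgroup X, H ≠ ⊤ → HasNormalPComplement p H)
    (hcard : Nat.card X = p ^ t * q ^ r) :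
    ∃ (P : Subgroup X) (y : X), Split p q r X P y ∧ ∀ i : ℕ, ¬ q ∣ i → Split p q r X P (y ^ i) := by
  have hp := (Fact.out : p.Prime)
  obtain ⟨-, -, hnorm⟩ := S0132.result h1 h2
  obtain ⟨P⟩ : Nonempty (Sylow p X) := inferInstance
  have hPn := hnorm P
  have hPc : Nat.card (P : Subgroup X) = p ^ t := by
    rw [Sylow.card_eq_multiplicity, hcard,
      Nat.factorization_mul (pow_pos hp.pos t).ne' (pow_pos hq.pos r).ne', Finsupp.add_apply,
      hp.factorization_pow, hq.factorization_pow, Finsupp.single_eq_same,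
      Finsupp.single_eq_of_ne hpq, add_zero]
  obtain ⟨g, hgc, hgn⟩ : ∃ g : X, (orderOf g).Coprime p ∧ g ∉ centralizer ((P : Subgroup X) : Set X) := by
    by_contra hcon
    push Not at hcon
    refine h1 (Fusion.hasNormalPComplement_of_frobenius fun Q hQ g _ hg => ?_)
    obtain ⟨S, hS⟩ := hQ.exists_le_sylow
    have := Sylow.unique_of_normal P hPn
    rw [Subsingleton.elim S P] at hS
    exact centralizer_le (SetLike.coe_subset_coe.mpr hS) (hcon g hg)
  -- a subgroup containing `R` and an element normalising `R` with coprime order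
  have key : ∀ (R : Subgroup X) (z : X), IsPGroup p R → (orderOf z).Coprime p →
      z ∈ normalizer (R : Set X) → R ⊔ zpowers z ≠ ⊤ → ∀ x ∈ R, z * x = x * z := by
    intro R z hR hz hzn hne x hx
    have h3 := Fusion.mem_centralizer_of_hasNormalPComplement (h2 _ hne)
      (Q := R.subgroupOf (R ⊔ zpowers z)) (hR.comap_of_injective _ (subtype_injective _))
      (g := ⟨z, mem_sup_right (mem_zpowers z)⟩)
      (mem_normalizer_iff.2 fun w => mem_normalizer_iff.1 hzn (w : X))
      (by rwa [Subgroup.orderOf_mk])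
    exact (congrArg Subtype.val (mem_centralizer_iff.1 h3 ⟨x, mem_sup_left hx⟩ hx)).symm
  have hsup : ∀ z : X, (orderOf z).Coprime p → Nat.card ((P : Subgroup X) ⊔ zpowers z : Subgroup X) =
      p ^ t * orderOf z := by
    intro z hz
    have hinf : zpowers z ⊓ (P : Subgroup X) = ⊥ := by
      refine inf_eq_bot_of_coprime ?_
      rw [Nat.card_zpowers, hPc]
      exact hz.pow_right t
    rw [sup_comm, Core.card_sup_of_inf_eq_bot hinf, Nat.card_zpowers, hPc, mul_comm]
  have htop : (P : Subgroup X) ⊔ zpowers g = ⊤ := by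
    by_contra hne
    refine hgn (mem_centralizer_iff.mpr fun x hx => (key _ g P.isPGroup' hgc ?_ hne x hx).symm)
    rw [normalizer_eq_top_iff.mpr hPn]; exact mem_top g
  have hgo : orderOf g = q ^ r := by
    have h3 := hsup g hgc
    rw [htop, card_top, hcard] at h3
    exact (Nat.eq_of_mul_eq_mul_left (pow_pos hp.pos t) h3).symm
  refine ⟨P, g, ?_⟩
  have main : ∀ z : X, z ∈ zpowers g → zpowers z = zpowers g → Split p q r X P z := by
    intro z _ hzg
    have hzo : orderOf z = q ^ r := by rw [← Nat.card_zpowers, hzg, Nat.card_zpowers, hgo]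
    have hzc : (orderOf z).Coprime p := by
      rw [hzo]; exact ((Nat.coprime_primes hq hp).mpr hpq.symm).pow_left r
    have hztop : (P : Subgroup X) ⊔ zpowers z = ⊤ := hzg ▸ htop
    refine ⟨hPn, P.isPGroup', hzo, hztop, fun R hRP hR hne x hx => ?_, fun x hx => ?_, ?_⟩
    · refine key R z (P.isPGroup'.to_le hRP) hzc ?_ (fun he => hne ?_) x hx
      · exact mem_normalizer_iff.mpr fun w => ⟨hR w, fun hw => by
          -- conjugation permutes the finite set `R`
          have hfix : R.map (MulAut.conj z).toMonoidHom = R := by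
            refine eq_of_le_of_card_ge ?_ (card_map_of_injective (MulAut.conj z).injective).ge
            rintro _ ⟨u, hu, rfl⟩
            simpa using hR u hu
          obtain ⟨u, hu, huw⟩ := (hfix.symm ▸ hw : z * w * z⁻¹ ∈ R.map (MulAut.conj z).toMonoidHom)
          have : u = w := by
            have h5 : z * u * z⁻¹ = z * w * z⁻¹ := by simpa using huw
            simpa using h5
          exact this ▸ hu⟩
      · have hinf : R ⊓ zpowers z = ⊥ := by
          refine inf_eq_bot_of_coprime ?_
          obtain ⟨m, hm⟩ := (P.isPGroup'.to_le hRP).exists_card_eq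
          rw [Nat.card_zpowers, hm]
          exact hzc.symm.pow_left m
        refine le_antisymm hRP fun u hu => ?_
        have hnz : zpowers z ≤ normalizer (R : Set X) := by
          rw [zpowers_le]
          refine mem_normalizer_iff.mpr fun w => ⟨hR w, fun hw => ?_⟩
          have hfix : R.map (MulAut.conj z).toMonoidHom = R := by
            refine eq_of_le_of_card_ge ?_ (card_map_of_injective (MulAut.conj z).injective).ge
            rintro _ ⟨u, hu, rfl⟩
            simpa using hR u hu
          obtain ⟨u, hu, huw⟩ := (hfix.symm ▸ hw : z * w * z⁻¹ ∈ R.map (MulAut.conj z).toMonoidHom)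
          have h5 : z * u * z⁻¹ = z * w * z⁻¹ := by simpa using huw
          exact (show u = w by simpa using h5) ▸ hu
        obtain ⟨a, ha, b, hb, hab⟩ : ∃ a ∈ R, ∃ b ∈ zpowers z, u = a * b := by
          have hmem : u ∈ ((R ⊔ zpowers z : Subgroup X) : Set X) := by rw [he]; exact Set.mem_univ u
          rw [coe_mul_of_right_le_normalizer_left R (zpowers z) hnz] at hmem
          obtain ⟨a, ha, b, hb, hab⟩ := hmem
          exact ⟨a, ha, b, hb, hab.symm⟩
        have hbP : b ∈ (P : Subgroup X) ⊓ zpowers z := by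
          refine ⟨?_, hb⟩
          have : b = a⁻¹ * u := by rw [hab, inv_mul_cancel_left]
          rw [this]; exact (P : Subgroup X).mul_mem ((P : Subgroup X).inv_mem (hRP ha)) hu
        have hPz : (P : Subgroup X) ⊓ zpowers z = ⊥ := by
          refine inf_eq_bot_of_coprime ?_
          rw [Nat.card_zpowers, hPc]
          exact hzc.symm.pow_left t
        rw [hPz, mem_bot] at hbP
        rw [hab, hbP, mul_one]; exact ha
    · have hzq : (orderOf (z ^ q)).Coprime p := hzc.coprime_dvd_left (orderOf_pow_dvd q)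
      refine key _ (z ^ q) P.isPGroup' hzq (by rw [normalizer_eq_top_iff.mpr hPn]; exact mem_top _)
        (fun he => ?_) x hx
      have h3 := hsup _ hzq
      rw [he, card_top, hcard, orderOf_pow' z hq.ne_zero, hzo,
        Nat.gcd_eq_right (dvd_pow_self q (by omega : r ≠ 0))] at h3
      have h4 := Nat.eq_of_mul_eq_mul_left (pow_pos hp.pos t) h3
      exact absurd h4 (Nat.div_lt_self (pow_pos hq.pos r) hq.one_lt).ne'
    · by_contra hcon
      push Not at hcon
      refine hgn (mem_centralizer_iff.mpr fun x hx => ?_)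
      have hz : z ∈ centralizer ({x} : Set X) := mem_centralizer_singleton_iff.mpr (hcon x hx)
      have : g ∈ centralizer ({x} : Set X) := zpowers_le.mpr hz (hzg ▸ mem_zpowers g)
      exact (mem_centralizer_singleton_iff.mp this).symm
  refine ⟨main g (mem_zpowers g) rfl, fun i hi => main _ (pow_mem (mem_zpowers g) i) ?_⟩
  refine eq_of_le_of_card_ge (zpowers_le.mpr (pow_mem (mem_zpowers g) i)) ?_
  rw [Nat.card_zpowers, Nat.card_zpowers, orderOf_pow' g (fun e => hi (by rw [e]; exact dvd_zero q)), hgo,
    Nat.Coprime.gcd_eq_one ((hq.coprime_iff_not_dvd.mpr hi).pow_left r), Nat.div_one]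

end Cfsg.Agent.SchmidtUniv
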