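import Mathlib.FieldTheory.Finite.GaloisField
import Mathlib.RingTheory.IntegralDomain
import Mathlib.Algebra.Ring.Subring.Basic

/-!
# The smallest field containing a root of unity of prime order

`K` is a field of order `p ^ a` with `a` the multiplicative order of `p` modulo `q`; an element
of order `q` acts irreducibly on the additive group of `K`.
-/

namespace Cfsg.Agent.SchmidtUniv

variable {p q a : ℕ}

/-- The standing hypotheses. -/
structure FieldData (p q a : ℕ) (K : Type*) [Field K] (lam : K) : Prop where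
  hp : p.Prime
  hq : q.Prime
  hne : p ≠ q
  ha : a = orderOf (p : ZMod q)
  hcard : Nat.card K = p ^ a
  hlam : orderOf lam = q

theorem orderOf_pos_of_ne (hp : p.Prime) (hq : q.Prime) (hne : p ≠ q) :
    0 < orderOf (p : ZMod q) := by
  have := Fact.mk hq
  refine orderOf_pos_iff.mpr (isOfFinOrder_iff_pow_eq_one.mpr ⟨q - 1, ?_, ?_⟩)
  · have := hq.two_le; omega
  · refine ZMod.pow_card_sub_one_eq_one fun h => hne ?_
    rw [ZMod.natCast_eq_zero_iff] at h
    exact ((Nat.prime_dvd_prime_iff_eq hq hp).mp h).symm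

variable {K : Type*} [Field K] {lam : K}

theorem FieldData.a_pos (h : FieldData p q a K lam) : 0 < a :=
  h.ha ▸ orderOf_pos_of_ne h.hp h.hq h.hne

theorem FieldData.finite (h : FieldData p q a K lam) : Finite K :=
  Nat.finite_of_card_ne_zero (h.hcard ▸ (pow_pos h.hp.pos _).ne')

theorem FieldData.dvd_card_sub_one (h : FieldData p q a K lam) : q ∣ p ^ a - 1 := by
  have h1 : ((p ^ a : ℕ) : ZMod q) = ((1 : ℕ) : ZMod q) := by
    push_cast; rw [h.ha]; exact pow_orderOf_eq_one _
  exact (Nat.modEq_iff_dvd' (Nat.one_le_pow _ _ h.hp.pos)).mp ((ZMod.natCast_eq_natCast_iff _ _ _).mp h1).symm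

/-- A subring containing an element of order `q` is everything. -/
theorem FieldData.subring_eq_top (h : FieldData p q a K lam) {mu : K} (hmu : orderOf mu = q)
    (S : Subring K) (hS : mu ∈ S) : S = ⊤ := by
  classical
  have := Fact.mk h.hp
  have := Fact.mk h.hq
  have := h.finite
  have := Fintype.ofFinite S
  letI : Field S := Fintype.fieldOfDomain S
  have hdvd : Nat.card S ∣ p ^ a := h.hcard ▸ AddSubgroup.card_addSubgroup_dvd_card S.toAddSubgroup
  obtain ⟨n, hn, hSn⟩ := (Nat.dvd_prime_pow h.hp).mp hdvd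
  have hne0 : (⟨mu, hS⟩ : S) ≠ 0 := fun e => by
    have h0 : mu = 0 := congrArg Subtype.val e
    rw [h0, orderOf_zero] at hmu
    exact h.hq.ne_zero hmu.symm
  have h1 := congrArg Subtype.val (FiniteField.pow_card_sub_one_eq_one (⟨mu, hS⟩ : S) hne0)
  rw [Fintype.card_eq_nat_card, hSn, SubmonoidClass.coe_pow] at h1
  have h2 : q ∣ p ^ n - 1 := hmu ▸ orderOf_dvd_of_pow_eq_one h1
  have h3 : (p : ZMod q) ^ n = 1 := by
    have h4 := (Nat.modEq_iff_dvd' (Nat.one_le_pow n p h.hp.pos)).mpr h2
    have h5 := (ZMod.natCast_eq_natCast_iff _ _ _).mpr h4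
    push_cast at h5
    exact h5.symm
  have hn0 : n ≠ 0 := by
    rintro rfl
    have hlt : 1 < Nat.card S := Finite.one_lt_card
    rw [hSn, pow_zero] at hlt
    exact lt_irrefl _ hlt
  have hna : a ∣ n := h.ha ▸ orderOf_dvd_of_pow_eq_one h3
  have hna' : n = a := le_antisymm hn (Nat.le_of_dvd (Nat.pos_of_ne_zero hn0) hna)
  have htop : S.toAddSubgroup = ⊤ := by
    refine AddSubgroup.eq_top_of_card_eq _ ?_
    change Nat.card S = Nat.card K
    rw [hSn, hna', h.hcard]
  refine eq_top_iff.mpr fun x _ => ?_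
  exact (htop ▸ AddSubgroup.mem_top x : x ∈ S.toAddSubgroup)

/-- Multiplication by an element of order `q` is irreducible. -/
theorem FieldData.irreducible (h : FieldData p q a K lam) {mu : K} (hmu : orderOf mu = q)
    (W : AddSubgroup K) (hW : ∀ w ∈ W, mu * w ∈ W) : W = ⊥ ∨ W = ⊤ := by
  let S : Subring K :=
    { carrier := {z | ∀ w ∈ W, z * w ∈ W}
      one_mem' := fun w hw => by rwa [one_mul]
      mul_mem' := fun {x y} hx hy w hw => by rw [mul_assoc]; exact hx _ (hy w hw)
      zero_mem' := fun w _ => by rw [zero_mul]; exact W.zero_mem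
      add_mem' := fun {x y} hx hy w hw => by rw [add_mul]; exact W.add_mem (hx w hw) (hy w hw)
      neg_mem' := fun {x} hx w hw => by rw [neg_mul]; exact W.neg_mem (hx w hw) }
  have hS : S = ⊤ := h.subring_eq_top hmu S hW
  refine or_iff_not_imp_left.mpr fun hne => ?_
  obtain ⟨w, hw, hw0⟩ := (AddSubgroup.bot_or_exists_ne_zero W).resolve_left hne
  refine eq_top_iff.mpr fun z _ => ?_
  have hz : z / w ∈ S := hS ▸ Subring.mem_top _
  simpa [div_mul_cancel₀ z hw0] using hz w hw

/-- The powers of an element of order `q` generate the additive group. -/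
theorem FieldData.closure_pow (h : FieldData p q a K lam) {mu : K} (hmu : orderOf mu = q) :
    AddSubgroup.closure (Set.range fun i : ℕ => mu ^ i) = ⊤ := by
  refine (h.irreducible hmu _ fun w hw => ?_).resolve_left ?_
  · induction hw using AddSubgroup.closure_induction with
    | mem x hx =>
      obtain ⟨i, rfl⟩ := hx
      exact AddSubgroup.subset_closure ⟨i + 1, pow_succ' mu i⟩
    | zero => rw [mul_zero]; exact zero_mem _
    | add x y _ _ hx hy => rw [mul_add]; exact add_mem hx hy
    | neg x _ hx => rw [mul_neg]; exact neg_mem hx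
  · intro e
    have h1 : (1 : K) ∈ AddSubgroup.closure (Set.range fun i : ℕ => mu ^ i) :=
      AddSubgroup.subset_closure ⟨0, pow_zero mu⟩
    rw [e, AddSubgroup.mem_bot] at h1
    exact one_ne_zero h1

/-- A subgroup containing all `μ ^ i + μ ^ (-i)` contains one half of the field, everything if `a`
is odd. -/
theorem FieldData.half (h : FieldData p q a K lam) {mu : K} (hmu : orderOf mu = q)
    (W : AddSubgroup K) (h1 : (1 : K) ∈ W) (hW : ∀ i : ℕ, mu ^ i + mu⁻¹ ^ i ∈ W) :
    p ^ (if a % 2 = 1 then a else a / 2) ≤ Nat.card W := by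
  classical
  have := Fact.mk h.hp
  have := h.finite
  let s : Set K := insert 1 (Set.range fun i : ℕ => mu ^ i + mu⁻¹ ^ i)
  let A : AddSubgroup K := AddSubgroup.closure s
  have hAW : A ≤ W := (AddSubgroup.closure_le _).mpr (Set.insert_subset h1 (by
    rintro _ ⟨i, rfl⟩; exact hW i))
  have hs1 : (1 : K) ∈ A := AddSubgroup.subset_closure (Set.mem_insert _ _)
  have hw : ∀ i : ℕ, mu ^ i + mu⁻¹ ^ i ∈ A := fun i =>
    AddSubgroup.subset_closure (Set.mem_insert_of_mem _ ⟨i, rfl⟩)
  have hmu0 : mu ≠ 0 := fun e => by rw [e, orderOf_zero] at hmu; exact h.hq.ne_zero hmu.symm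
  have hinv : mu * mu⁻¹ = 1 := mul_inv_cancel₀ hmu0
  have hww : ∀ i j : ℕ, (mu ^ i + mu⁻¹ ^ i) * (mu ^ j + mu⁻¹ ^ j) ∈ A := by
    have key : ∀ i d : ℕ, (mu ^ i + mu⁻¹ ^ i) * (mu ^ (i + d) + mu⁻¹ ^ (i + d)) ∈ A := by
      intro i d
      have e : (mu ^ i + mu⁻¹ ^ i) * (mu ^ (i + d) + mu⁻¹ ^ (i + d)) =
          (mu ^ (i + (i + d)) + mu⁻¹ ^ (i + (i + d))) + (mu ^ d + mu⁻¹ ^ d) := by
        have e1 : mu ^ i * mu⁻¹ ^ i = 1 := by rw [← mul_pow, hinv, one_pow]
        simp only [pow_add]
        linear_combination (mu⁻¹ ^ d + mu ^ d) * e1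
      rw [e]; exact add_mem (hw _) (hw _)
    intro i j
    rcases le_total i j with hij | hij <;> obtain ⟨d, rfl⟩ := Nat.exists_eq_add_of_le hij
    · exact key i d
    · rw [mul_comm]; exact key j d
  have hmul : ∀ x ∈ A, ∀ y ∈ A, x * y ∈ A := by
    intro x hx y hy
    induction hx using AddSubgroup.closure_induction generalizing y with
    | mem x hxs =>
      rcases hxs with rfl | ⟨i, rfl⟩
      · rwa [one_mul]
      · induction hy using AddSubgroup.closure_induction with
        | mem y hys =>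
          rcases hys with rfl | ⟨j, rfl⟩
          · rw [mul_one]; exact hw i
          · exact hww i j
        | zero => rw [mul_zero]; exact zero_mem _
        | add u v _ _ hu hv => rw [mul_add]; exact add_mem hu hv
        | neg u _ hu => rw [mul_neg]; exact neg_mem hu
    | zero => rw [zero_mul]; exact zero_mem _
    | add u v _ _ hu hv => rw [add_mul]; exact add_mem (hu y hy) (hv y hy)
    | neg u _ hu => rw [neg_mul]; exact neg_mem (hu y hy)
  let R : Subring K :=
    { A with
      one_mem' := hs1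
      mul_mem' := fun hx hy => hmul _ hx _ hy }
  have := Fintype.ofFinite R
  letI : Field R := Fintype.fieldOfDomain R
  -- `A + μ A` is everything
  have hsum : ∀ i : ℕ, ∃ u ∈ A, ∃ v ∈ A, mu ^ i = u + mu * v := by
    have key : ∀ i : ℕ, (∃ u ∈ A, ∃ v ∈ A, mu ^ i = u + mu * v) ∧
        ∃ u ∈ A, ∃ v ∈ A, mu ^ (i + 1) = u + mu * v := by
      intro i
      induction i with
      | zero => exact ⟨⟨1, hs1, 0, zero_mem _, by simp⟩, ⟨0, zero_mem _, 1, hs1, by simp⟩⟩
      | succ i ih =>
        refine ⟨ih.2, ?_⟩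
        obtain ⟨u, hu, v, hv, he⟩ := ih.1
        refine ⟨u + -(mu ^ i + mu⁻¹ ^ i), add_mem hu (neg_mem (hw i)),
          v + (mu ^ (i + 1) + mu⁻¹ ^ (i + 1)), add_mem hv (hw _), ?_⟩
        have e1 : mu * mu⁻¹ ^ (i + 1) = mu⁻¹ ^ i := by
          rw [pow_succ', ← mul_assoc, hinv, one_mul]
        rw [mul_add, mul_add, e1, pow_succ' mu (i + 1)]
        linear_combination he
    exact fun i => (key i).1
  have hsurj : Function.Surjective fun uv : A × A => (uv.1 : K) + mu * uv.2 := by
    intro z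
    have hz : z ∈ AddSubgroup.closure (Set.range fun i : ℕ => mu ^ i) :=
      h.closure_pow hmu ▸ AddSubgroup.mem_top z
    induction hz using AddSubgroup.closure_induction with
    | mem x hx =>
      obtain ⟨i, rfl⟩ := hx
      obtain ⟨u, hu, v, hv, he⟩ := hsum i
      exact ⟨(⟨u, hu⟩, ⟨v, hv⟩), he.symm⟩
    | zero => exact ⟨0, by simp⟩
    | add x y _ _ hx hy =>
      obtain ⟨s, rfl⟩ := hx
      obtain ⟨t, rfl⟩ := hy
      exact ⟨s + t, by simp; ring⟩
    | neg x _ hx =>
      obtain ⟨s, rfl⟩ := hx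
      exact ⟨-s, by simp; ring⟩
  have hle := Nat.card_le_card_of_surjective _ hsurj
  rw [Nat.card_prod, h.hcard] at hle
  obtain ⟨n, hn, hAn⟩ := (Nat.dvd_prime_pow h.hp).mp
    (h.hcard ▸ AddSubgroup.card_addSubgroup_dvd_card A)
  rw [hAn, ← pow_add] at hle
  have hle' : a ≤ n + n := (Nat.pow_le_pow_iff_right h.hp.one_lt).mp hle
  have hna : n ∣ a := by
    have h2 : Nat.card K = Nat.card R ^ Module.finrank R K := Module.natCard_eq_pow_finrank
    have hR : Nat.card R = p ^ n := hAn
    rw [h.hcard, hR, ← pow_mul] at h2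
    exact Dvd.intro _ ((Nat.pow_right_injective h.hp.two_le h2).symm)
  refine le_trans ?_ (AddSubgroup.card_le_of_le hAW)
  rw [hAn]
  refine Nat.pow_le_pow_right h.hp.pos ?_
  obtain ⟨d, rfl⟩ := hna
  rcases d with _ | _ | _ | d
  · simp
  · simp only [zero_add, mul_one]; split_ifs <;> omega
  · split_ifs with ho <;> omega
  · nlinarith [h.a_pos]

end Cfsg.Agent.SchmidtUniv
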