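import Cfsg.Agent.SchmidtUniv.Field
import Mathlib.GroupTheory.SemidirectProduct
import Mathlib.GroupTheory.PGroup
import Cfsg.Agent.Fusion.FixedPointFree
import Cfsg.Agent.Core.Fitting

/-!
# The group `K ⋊ Z/q^r`, its central extensions, and minimal non-`p`-nilpotent groups
-/

namespace Cfsg.Agent.SchmidtUniv

open Subgroup

universe u

variable {K : Type} [Field K]

/-- The character of `Z/n` sending the generator to the unit `u`. -/
noncomputable def chi (u : Kˣ) (n : ℕ) (hu : u ^ n = 1) : Multiplicative (ZMod n) →* Kˣ :=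
  AddMonoidHom.toMultiplicativeLeft (ZMod.lift n ⟨zmultiplesHom (Additive Kˣ) (Additive.ofMul u),
    by simpa [zmultiplesHom_apply] using congrArg Additive.ofMul hu⟩)

theorem chi_natCast (u : Kˣ) (n : ℕ) (hu : u ^ n = 1) (i : ℕ) :
    chi u n hu (Multiplicative.ofAdd (i : ZMod n)) = u ^ i := by
  have h : ((i : ℤ) : ZMod n) = (i : ZMod n) := Int.cast_natCast i
  rw [← h]
  change Additive.toMul (ZMod.lift n _ ((i : ℤ) : ZMod n)) = _
  rw [ZMod.lift_coe]
  simp [zmultiplesHom_apply]

theorem chi_mem_zpowers (u : Kˣ) (n : ℕ) [NeZero n] (hu : u ^ n = 1) (x : Multiplicative (ZMod n)) :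
    ∃ i : ℕ, chi u n hu x = u ^ i := by
  obtain ⟨z, rfl⟩ := Multiplicative.ofAdd.surjective x
  exact ⟨z.val, by rw [← chi_natCast u n hu z.val, ZMod.natCast_zmod_val]⟩

/-- Multiplication by units, as automorphisms of `(K, +)`. -/
def scale : Kˣ →* MulAut (Multiplicative K) where
  toFun c := AddEquiv.toMultiplicative
    { toFun := fun v => c * v
      invFun := fun v => (c⁻¹ : Kˣ) * v
      left_inv := fun v => by simp [← mul_assoc]
      right_inv := fun v => by simp [← mul_assoc]
      map_add' := fun v w => mul_add _ v w }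
  map_one' := by ext v; simp
  map_mul' c d := by
    ext v
    change _ = (c : K) * ((d : K) * Multiplicative.toAdd v)
    simp [mul_assoc]

theorem scale_apply (c : Kˣ) (v : K) :
    scale c (Multiplicative.ofAdd v) = Multiplicative.ofAdd ((c : K) * v) := rfl

/-- The group `K ⋊ Z/n`. -/
abbrev Base (u : Kˣ) (n : ℕ) (hu : u ^ n = 1) :=
  Multiplicative K ⋊[scale.comp (chi u n hu)] Multiplicative (ZMod n)

variable {Z : Type} [AddCommGroup Z]

/-- The central extension of `(K, +)` by `Z` with cocycle `β`. -/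
@[ext]
structure Ext (β : K →+ K →+ Z) where
  fst : K
  snd : Z

namespace Ext

variable {β : K →+ K →+ Z}

instance : Mul (Ext β) := ⟨fun A B => ⟨A.fst + B.fst, A.snd + B.snd + β A.fst B.fst⟩⟩
instance : One (Ext β) := ⟨⟨0, 0⟩⟩
instance : Inv (Ext β) := ⟨fun A => ⟨-A.fst, -A.snd + β A.fst A.fst⟩⟩

@[simp] theorem mul_fst (A B : Ext β) : (A * B).fst = A.fst + B.fst := rfl
@[simp] theorem mul_snd (A B : Ext β) : (A * B).snd = A.snd + B.snd + β A.fst B.fst := rfl
@[simp] theorem one_fst : (1 : Ext β).fst = 0 := rfl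
@[simp] theorem one_snd : (1 : Ext β).snd = 0 := rfl
@[simp] theorem inv_fst (A : Ext β) : A⁻¹.fst = -A.fst := rfl
@[simp] theorem inv_snd (A : Ext β) : A⁻¹.snd = -A.snd + β A.fst A.fst := rfl

instance : Group (Ext β) where
  mul_assoc A B C := by ext <;> simp [add_assoc, add_left_comm, add_comm]
  one_mul A := by ext <;> simp
  mul_one A := by ext <;> simp
  inv_mul_cancel A := by ext <;> simp

instance [Finite K] [Finite Z] : Finite (Ext β) :=
  Finite.of_injective (fun A => (A.fst, A.snd)) fun A B h => Ext.ext (congrArg Prod.fst h) (congrArg Prod.snd h)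

theorem card_eq : Nat.card (Ext β) = Nat.card K * Nat.card Z := by
  rw [← Nat.card_prod]
  exact Nat.card_congr ⟨fun A => (A.fst, A.snd), fun x => ⟨x.1, x.2⟩, fun _ => rfl, fun _ => rfl⟩

/-- The projection to `K`. -/
def proj : Ext β →* Multiplicative K where
  toFun A := Multiplicative.ofAdd A.fst
  map_one' := rfl
  map_mul' _ _ := rfl

/-- Multiplication by a unit preserving the cocycle. -/
def twist (c : Kˣ) (h : ∀ v w, β ((c : K) * v) ((c : K) * w) = β v w) : MulAut (Ext β) where
  toFun A := ⟨(c : K) * A.fst, A.snd⟩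
  invFun A := ⟨((c⁻¹ : Kˣ) : K) * A.fst, A.snd⟩
  left_inv A := by ext <;> simp [← mul_assoc]
  right_inv A := by ext <;> simp [← mul_assoc]
  map_mul' A B := by ext <;> simp [mul_add, h]

end Ext

theorem invariant_pow {β : K →+ K →+ Z} {c : Kˣ} (h : ∀ v w, β ((c : K) * v) ((c : K) * w) = β v w)
    (i : ℕ) : ∀ v w, β (((c ^ i : Kˣ) : K) * v) (((c ^ i : Kˣ) : K) * w) = β v w := by
  induction i with
  | zero => simp
  | succ i ih =>
    intro v w
    rw [pow_succ, Units.val_mul, mul_assoc, mul_assoc, ih, h]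

/-- The action of `Z/n` on the extension. -/
noncomputable def extAct (β : K →+ K →+ Z) (u : Kˣ) (n : ℕ) [NeZero n] (hu : u ^ n = 1)
    (h : ∀ v w, β ((u : K) * v) ((u : K) * w) = β v w) :
    Multiplicative (ZMod n) →* MulAut (Ext β) where
  toFun x := Ext.twist (chi u n hu x) (by
    obtain ⟨i, hi⟩ := chi_mem_zpowers u n hu x
    rw [hi]; exact invariant_pow h i)
  map_one' := by
    ext A
    · change ((chi u n hu 1 : Kˣ) : K) * A.fst = A.fst
      rw [map_one, Units.val_one, one_mul]
    · rfl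
  map_mul' x y := by
    ext A
    · change ((chi u n hu (x * y) : Kˣ) : K) * A.fst = (chi u n hu x : K) * ((chi u n hu y : K) * A.fst)
      rw [map_mul, Units.val_mul, mul_assoc]
    · rfl

/-- The extension of `K ⋊ Z/n`. -/
abbrev Cover (β : K →+ K →+ Z) (u : Kˣ) (n : ℕ) [NeZero n] (hu : u ^ n = 1)
    (h : ∀ v w, β ((u : K) * v) ((u : K) * w) = β v w) :=
  Ext β ⋊[extAct β u n hu h] Multiplicative (ZMod n)

/-- The projection of the extension. -/
noncomputable def coverProj (β : K →+ K →+ Z) (u : Kˣ) (n : ℕ) [NeZero n] (hu : u ^ n = 1)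
    (h : ∀ v w, β ((u : K) * v) ((u : K) * w) = β v w) : Cover β u n hu h →* Base u n hu :=
  SemidirectProduct.map Ext.proj (MonoidHom.id _) fun _ => MonoidHom.ext fun _ => rfl

theorem coverProj_surjective (β : K →+ K →+ Z) (u : Kˣ) (n : ℕ) [NeZero n] (hu : u ^ n = 1)
    (h : ∀ v w, β ((u : K) * v) ((u : K) * w) = β v w) :
    Function.Surjective (coverProj β u n hu h) := fun x =>
  ⟨⟨⟨Multiplicative.toAdd x.left, 0⟩, x.right⟩, by ext <;> rfl⟩

theorem coverProj_ker_le (β : K →+ K →+ Z) (u : Kˣ) (n : ℕ) [NeZero n] (hu : u ^ n = 1)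
    (h : ∀ v w, β ((u : K) * v) ((u : K) * w) = β v w) :
    (coverProj β u n hu h).ker ≤ center (Cover β u n hu h) := by
  intro g hg
  have h1 : g.left.fst = 0 := congrArg Multiplicative.toAdd (congrArg SemidirectProduct.left hg)
  have h2 : g.right = 1 := (congrArg SemidirectProduct.right hg :)
  refine mem_center_iff.mpr fun x => ?_
  refine SemidirectProduct.ext ?_ ?_
  · rw [SemidirectProduct.mul_left, SemidirectProduct.mul_left, h2, map_one, MulAut.one_apply]
    ext
    · change x.left.fst + (chi u n hu x.right : K) * g.left.fst = g.left.fst + x.left.fst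
      rw [h1, mul_zero, add_zero, zero_add]
    · change x.left.snd + g.left.snd + β x.left.fst ((chi u n hu x.right : K) * g.left.fst) =
        g.left.snd + x.left.snd + β g.left.fst x.left.fst
      rw [h1, mul_zero, map_zero, map_zero, AddMonoidHom.zero_apply, add_comm x.left.snd]
  · rw [SemidirectProduct.mul_right, SemidirectProduct.mul_right, mul_comm]

/-! ### Minimality -/

variable {p q a r : ℕ} {u : Kˣ} {n : ℕ} {hu : u ^ n = 1} {lam : K}

theorem base_card [Finite K] [NeZero n] : Nat.card (Base u n hu) = Nat.card K * n := by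
  rw [SemidirectProduct.card, Nat.card_congr Multiplicative.toAdd, Nat.card_congr Multiplicative.toAdd,
    Nat.card_zmod]

instance finite_base [Finite K] [NeZero n] : Finite (Base u n hu) :=
  Finite.of_equiv _ SemidirectProduct.equivProd.symm

/-- A group mapping onto `K ⋊ Z/q^r` with kernel a `p`-group has no normal `p`-complement. -/
theorem not_hasNormalPComplement (d : FieldData p q a K (u : K)) (hn : n = q ^ r)
    {M : Type u} [Group M] [Finite M] (π : M →* Base u n hu) (hsurj : Function.Surjective π)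
    (hker : IsPGroup p π.ker) : ¬ HasNormalPComplement p M := by
  intro hM
  have := Fact.mk d.hp
  have := d.finite
  have : NeZero n := ⟨hn ▸ (pow_pos d.hq.pos r).ne'⟩
  have hKp : IsPGroup p (Multiplicative K) :=
    IsPGroup.of_card (n := a) (by rw [Nat.card_congr Multiplicative.toAdd, d.hcard])
  set N : Subgroup (Base u n hu) := (SemidirectProduct.inl : Multiplicative K →* Base u n hu).range
    with hN
  have hNp : IsPGroup p N := hKp.of_surjective _ (SemidirectProduct.inl).rangeRestrict_surjective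
  have hNn : N.Normal := by rw [hN, SemidirectProduct.range_inl_eq_ker_rightHom]; infer_instance
  have hPp : IsPGroup p (N.comap π) := hNp.comap_of_ker_isPGroup π hker
  have hPn : (N.comap π).Normal := hNn.comap π
  obtain ⟨g, hg⟩ := hsurj (SemidirectProduct.inr (Multiplicative.ofAdd ((1 : ℕ) : ZMod n)))
  obtain ⟨i, m, hm, hgo⟩ := Nat.exists_eq_pow_mul_and_not_dvd (orderOf_pos g).ne' p d.hp.ne_one
  have hgc : (orderOf (g ^ p ^ i)).Coprime p := by
    rw [orderOf_pow' g (pow_pos d.hp.pos i).ne', hgo, Nat.gcd_eq_right (dvd_mul_right _ _),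
      Nat.mul_div_cancel_left _ (pow_pos d.hp.pos i)]
    exact ((Nat.Prime.coprime_iff_not_dvd d.hp).mpr hm).symm
  have hcen := Fusion.mem_centralizer_of_hasNormalPComplement hM hPp
    (g := g ^ p ^ i) (by rw [normalizer_eq_top_iff.mpr hPn]; exact mem_top _) hgc
  obtain ⟨v, hv⟩ := hsurj (SemidirectProduct.inl (Multiplicative.ofAdd (1 : K)))
  have hvN : v ∈ N.comap π := ⟨_, hv.symm⟩
  have h1 := congrArg π (mem_centralizer_iff.mp hcen v hvN)
  rw [map_mul, map_mul, map_pow, hg, hv, ← map_pow, ← ofAdd_nsmul, nsmul_eq_mul, ← Nat.cast_mul,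
    mul_one] at h1
  have h2 := congrArg (fun z : Base u n hu => Multiplicative.toAdd z.left) h1
  simp only [SemidirectProduct.mul_left, SemidirectProduct.left_inl, SemidirectProduct.right_inl,
    SemidirectProduct.left_inr, SemidirectProduct.right_inr, map_one, mul_one, one_mul,
    MonoidHom.comp_apply, chi_natCast, scale_apply, toAdd_ofAdd, toAdd_one, Units.val_pow_eq_pow_val]
    at h2
  have h3 : q ∣ p ^ i := d.hlam ▸ orderOf_dvd_of_pow_eq_one h2.symm
  exact d.hne ((Nat.prime_dvd_prime_iff_eq d.hq d.hp).mp (d.hq.dvd_of_dvd_pow h3)).symm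

/-- A proper subgroup of `K ⋊ Z/q^r` is abelian. -/
theorem base_comm (d : FieldData p q a K (u : K)) (hn : n = q ^ r) (H : Subgroup (Base u n hu))
    (hH : H ≠ ⊤) : ∀ x ∈ H, ∀ y ∈ H, x * y = y * x := by
  have : NeZero n := ⟨hn ▸ (pow_pos d.hq.pos r).ne'⟩
  have hu1 : orderOf u = q := by rw [← orderOf_units]; exact d.hlam
  by_cases hc : ∀ x ∈ H, chi u n hu x.right = 1
  · intro x hx y hy
    refine SemidirectProduct.ext ?_ ?_
    · simp only [SemidirectProduct.mul_left, MonoidHom.comp_apply, hc x hx, hc y hy, map_one,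
        MulAut.one_apply, mul_comm]
    · simp only [SemidirectProduct.mul_right, mul_comm]
  push Not at hc
  obtain ⟨h, hh, hhc⟩ := hc
  obtain ⟨i, hi⟩ := chi_mem_zpowers u n hu h.right
  have hiq : ¬ q ∣ i := fun hd => hhc (by
    rw [hi]; exact orderOf_dvd_iff_pow_eq_one.mp (hu1 ▸ hd))
  have hmu : orderOf ((chi u n hu h.right : Kˣ) : K) = q := by
    rw [orderOf_units, hi, orderOf_pow' u (fun e => hiq (by rw [e]; exact dvd_zero q)), hu1,
      Nat.Coprime.gcd_eq_one ((Nat.Prime.coprime_iff_not_dvd d.hq).mpr hiq), Nat.div_one]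
  let W : AddSubgroup K :=
    Subgroup.toAddSubgroup' (H.comap (SemidirectProduct.inl : Multiplicative K →* Base u n hu))
  have hW : ∀ v : K, v ∈ W ↔ (SemidirectProduct.inl (Multiplicative.ofAdd v) : Base u n hu) ∈ H :=
    fun v => Iff.rfl
  rcases d.irreducible hmu W (fun w hw => (hW _).mpr (by
    have h1 := H.mul_mem (H.mul_mem hh ((hW w).mp hw)) (H.inv_mem hh)
    convert h1 using 1
    refine SemidirectProduct.ext ?_ ?_
    · simp [SemidirectProduct.mul_left, scale_apply]
    · simp)) with hb | ht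
  · intro x hx y hy
    have e1 : (x * y * x⁻¹ * y⁻¹).right = 1 := by simp [mul_comm]
    have e2 : (SemidirectProduct.inl (x * y * x⁻¹ * y⁻¹).left : Base u n hu) = x * y * x⁻¹ * y⁻¹ :=
      SemidirectProduct.ext (by simp) (by rw [e1]; simp)
    have hmem : Multiplicative.toAdd (x * y * x⁻¹ * y⁻¹).left ∈ W := (hW _).mpr (by
      rw [ofAdd_toAdd, e2]
      exact H.mul_mem (H.mul_mem (H.mul_mem hx hy) (H.inv_mem hx)) (H.inv_mem hy))
    rw [hb, AddSubgroup.mem_bot] at hmem
    have e3 : x * y * x⁻¹ * y⁻¹ = 1 := by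
      rw [← e2]
      simp [toAdd_eq_zero.mp hmem]
    exact mul_inv_eq_iff_eq_mul.mp (mul_inv_eq_one.mp e3)
  · refine absurd (eq_top_iff.mpr fun x _ => ?_) hH
    have hin : ∀ v, (SemidirectProduct.inl v : Base u n hu) ∈ H := fun v =>
      (hW _).mp (ht ▸ AddSubgroup.mem_top (Multiplicative.toAdd v))
    have hr : (SemidirectProduct.inr h.right : Base u n hu) ∈ H := by
      have := H.mul_mem (H.inv_mem (hin h.left)) hh
      convert this using 1
      rw [eq_inv_mul_iff_mul_eq, SemidirectProduct.inl_left_mul_inr_right]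
    have hcop : (Multiplicative.toAdd h.right).val.Coprime n := by
      refine (congrArg (Nat.Coprime _) hn).mpr ?_
      refine Nat.Coprime.pow_right _ ((Nat.Prime.coprime_iff_not_dvd d.hq).mpr fun hd => hhc ?_).symm
      rw [← ofAdd_toAdd h.right, ← ZMod.natCast_zmod_val (Multiplicative.toAdd h.right), chi_natCast]
      exact orderOf_dvd_iff_pow_eq_one.mp (hu1 ▸ hd)
    have hgen : ∀ z : Multiplicative (ZMod n), ∃ k : ℕ, h.right ^ k = z := by
      intro z
      obtain ⟨k, hk⟩ : ∃ k : ℕ, (k : ZMod n) * Multiplicative.toAdd h.right = Multiplicative.toAdd z :=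
        ⟨((Multiplicative.toAdd z) * (ZMod.unitOfCoprime _ hcop)⁻¹ : ZMod n).val, by
          rw [ZMod.natCast_zmod_val]
          conv_lhs => arg 2; rw [← ZMod.natCast_zmod_val (Multiplicative.toAdd h.right),
            ← ZMod.coe_unitOfCoprime _ hcop]
          rw [mul_assoc, Units.inv_mul, mul_one]⟩
      exact ⟨k, by rw [← ofAdd_toAdd h.right, ← ofAdd_nsmul, nsmul_eq_mul, hk, ofAdd_toAdd]⟩
    obtain ⟨k, hk⟩ := hgen x.right
    rw [← SemidirectProduct.inl_left_mul_inr_right x, ← hk, map_pow]
    exact H.mul_mem (hin _) (H.pow_mem hr k)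

/-- A subgroup with proper image under a central quotient map to `K ⋊ Z/q^r` has a normal
`p`-complement. -/
theorem hasNormalPComplement_of_map_ne_top [Fact p.Prime] (d : FieldData p q a K (u : K))
    (hn : n = q ^ r) {M : Type u} [Group M] [Finite M] (π : M →* Base u n hu)
    (hker : π.ker ≤ center M) (H : Subgroup M) (hH : H.map π ≠ ⊤) : HasNormalPComplement p H := by
  refine Fusion.hasNormalPComplement_of_isNilpotent (Core.isNilpotent_of_commutator_le_center
    (C := π.ker) ?_ fun x _ => mem_centralizer_iff.mpr fun c hc => (mem_center_iff.mp (hker hc) x).symm)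
  refine Subgroup.commutator_le.mpr fun x hx y hy => ?_
  rw [MonoidHom.mem_ker, map_commutatorElement, commutatorElement_eq_one_iff_mul_comm]
  exact base_comm d hn _ hH _ (mem_map_of_mem π hx) _ (mem_map_of_mem π hy)

end Cfsg.Agent.SchmidtUniv
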