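import Cfsg.Agent.SchmidtUniv.Field
import Mathlib.RingTheory.RootsOfUnity.PrimitiveRoots
import Mathlib.Algebra.Polynomial.Splits
import Mathlib.Algebra.CharP.CharAndCard
import Mathlib.RingTheory.Polynomial.Cyclotomic.Basic
import Mathlib.Algebra.Module.ZMod
import Mathlib.Algebra.Polynomial.Module.AEval

/-!
# An irreducible operator of prime order is multiplication by a root of unity
-/

namespace Cfsg.Agent.SchmidtUniv

open Polynomial

variable {p q a : ℕ} {K : Type} [Field K] {lam : K}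

theorem FieldData.exists_iso_aux [Fact p.Prime] (d : FieldData p q a K lam) {V : Type*} [AddCommGroup V] [Nontrivial V]
    [Module (ZMod p) V] (T : V →+ V) (hT : ∀ v, T^[q] v = v) (hne : ∃ v, T v ≠ v)
    (hirr : ∀ W : AddSubgroup V, (∀ w ∈ W, T w ∈ W) → W = ⊥ ∨ W = ⊤) :
    ∃ (j : ℕ) (e : V ≃+ K), ¬ q ∣ j ∧ ∀ v, e (T v) = lam ^ j * e v := by
  classical
  have := d.finite
  have := Fintype.ofFinite K
  have : CharP K p := charP_of_card_eq_prime_pow (f := a) (by rw [Fintype.card_eq_nat_card, d.hcard])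
  letI : Algebra (ZMod p) K := ZMod.algebra K p
  let L : Module.End (ZMod p) V := T.toZModLinearMap p
  obtain ⟨v₀, hv₀⟩ := exists_ne (0 : V)
  let Φ : (ZMod p)[X] →+ V :=
    { toFun := fun h => (aeval L h : Module.End (ZMod p) V) v₀
      map_zero' := by simp
      map_add' := fun g h => by simp }
  have hX : ∀ h, Φ (X * h) = T (Φ h) := fun h => by simp [Φ, L, Module.End.mul_apply]
  have hsurj : Function.Surjective Φ := by
    refine AddMonoidHom.range_eq_top.mp ((hirr _ ?_).resolve_left fun e => hv₀ ?_)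
    · rintro _ ⟨h, rfl⟩; exact ⟨X * h, hX h⟩
    · have h1 : Φ 1 ∈ Φ.range := ⟨1, rfl⟩
      rw [e, AddSubgroup.mem_bot] at h1
      simpa [Φ] using h1
  let J : Ideal (ZMod p)[X] :=
    { carrier := {h | Φ h = 0}
      add_mem' := fun {g h} hg hh => by
        simp only [Set.mem_setOf_eq] at *; rw [map_add, hg, hh, add_zero]
      zero_mem' := map_zero Φ
      smul_mem' := fun c h hh => by
        simp only [Set.mem_setOf_eq] at *
        change (aeval L (c * h) : Module.End (ZMod p) V) v₀ = 0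
        rw [map_mul, Module.End.mul_apply, show (aeval L h : Module.End (ZMod p) V) v₀ = 0 from hh, map_zero] }
  have hJ : ∀ h, h ∈ J ↔ Φ h = 0 := fun h => Iff.rfl
  have hJq : X ^ q - 1 ∈ J := (hJ _).mpr (by
    simp [Φ, L, Module.End.pow_apply, hT])
  set f := Submodule.IsPrincipal.generator J with hf
  have hfJ : ∀ h, h ∈ J ↔ f ∣ h := fun h => Submodule.IsPrincipal.mem_iff_generator_dvd J
  have hfu : ¬ IsUnit f := fun hu => hv₀ (by
    have := (hJ 1).mp ((hfJ 1).mpr hu.dvd)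
    simpa [Φ] using this)
  have hX0 : (X ^ q - 1 : K[X]) ≠ 0 := X_pow_sub_C_ne_zero d.hq.pos 1
  have hf0 : f ≠ 0 := fun e => by
    have h1 := (hfJ _).mp hJq
    rw [e, zero_dvd_iff] at h1
    exact X_pow_sub_C_ne_zero d.hq.pos (1 : ZMod p) h1
  have hprim : IsPrimitiveRoot lam q := d.hlam ▸ IsPrimitiveRoot.orderOf lam
  have hdvd : f.map (algebraMap (ZMod p) K) ∣ X ^ q - 1 := by
    have h1 := Polynomial.map_dvd (algebraMap (ZMod p) K) ((hfJ _).mp hJq)
    simpa using h1
  have hsplit : (f.map (algebraMap (ZMod p) K)).Splits :=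
    (X_pow_sub_one_splits hprim).of_dvd hX0 hdvd
  have hdeg : (f.map (algebraMap (ZMod p) K)).degree ≠ 0 := by
    rw [degree_map]
    intro h0
    exact hfu (isUnit_iff_degree_eq_zero.mpr h0)
  obtain ⟨mu, hmu⟩ := hsplit.exists_eval_eq_zero hdeg
  have hmuf : aeval mu f = 0 := by rwa [aeval_def, ← eval_map]
  have hmuq : mu ^ q = 1 := by
    obtain ⟨g, hg⟩ := hdvd
    have := congrArg (Polynomial.eval mu) hg
    simp [hmu] at this
    exact sub_eq_zero.mp this
  have hwd : ∀ g h, Φ g = Φ h → aeval mu g = aeval mu h := by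
    intro g h hgh
    obtain ⟨c, hc⟩ := (hfJ (g - h)).mp ((hJ _).mpr (by rw [map_sub, hgh, sub_self]))
    rw [← sub_eq_zero, ← map_sub, hc, map_mul, hmuf, zero_mul]
  let ψ : V →+ K :=
    { toFun := fun v => aeval mu (hsurj v).choose
      map_zero' := by rw [hwd _ 0 (by rw [(hsurj 0).choose_spec, map_zero]), map_zero]
      map_add' := fun v w => by
        rw [hwd _ ((hsurj v).choose + (hsurj w).choose) (by
          rw [(hsurj (v + w)).choose_spec, map_add, (hsurj v).choose_spec, (hsurj w).choose_spec]),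
          map_add] }
  have hψ : ∀ h, ψ (Φ h) = aeval mu h := fun h => hwd _ _ (hsurj (Φ h)).choose_spec
  have hψT : ∀ v, ψ (T v) = mu * ψ v := by
    intro v
    obtain ⟨h, rfl⟩ := hsurj v
    rw [← hX, hψ, hψ, map_mul, aeval_X]
  have hinj : Function.Injective ψ := by
    refine (ψ.ker_eq_bot_iff).mp ((hirr ψ.ker fun w hw => ?_).resolve_right fun e => ?_)
    · rw [AddMonoidHom.mem_ker] at hw ⊢; rw [hψT, hw, mul_zero]
    · have h1 : ψ (Φ 1) = 1 := by rw [hψ, map_one]
      have h2 : Φ 1 ∈ ψ.ker := e ▸ AddSubgroup.mem_top _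
      rw [AddMonoidHom.mem_ker, h1] at h2
      exact one_ne_zero h2
  have hmu1 : mu ≠ 1 := by
    rintro rfl
    obtain ⟨v, hv⟩ := hne
    exact hv (hinj (by rw [hψT, one_mul]))
  have := Fact.mk d.hq
  have hmuo : orderOf mu = q := orderOf_eq_prime hmuq hmu1
  have hsur : Function.Surjective ψ := by
    refine AddMonoidHom.range_eq_top.mp ((d.irreducible hmuo ψ.range ?_).resolve_left fun e => ?_)
    · rintro _ ⟨v, rfl⟩; exact ⟨T v, hψT v⟩
    · have h1 : ψ (Φ 1) ∈ ψ.range := ⟨_, rfl⟩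
      rw [e, AddSubgroup.mem_bot, hψ, map_one] at h1
      exact one_ne_zero h1
  have : NeZero q := ⟨d.hq.ne_zero⟩
  obtain ⟨j, -, hj⟩ := hprim.eq_pow_of_pow_eq_one hmuq
  refine ⟨j, AddEquiv.ofBijective ψ ⟨hinj, hsur⟩, fun hd => hmu1 ?_, fun v => ?_⟩
  · rw [← hj, ← d.hlam] at *
    exact orderOf_dvd_iff_pow_eq_one.mp hd
  · rw [hj]; exact hψT v

theorem FieldData.exists_iso (d : FieldData p q a K lam) {V : Type*} [AddCommGroup V] [Nontrivial V]
    (hV : ∀ v : V, p • v = 0) (T : V →+ V) (hT : ∀ v, T^[q] v = v) (hne : ∃ v, T v ≠ v)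
    (hirr : ∀ W : AddSubgroup V, (∀ w ∈ W, T w ∈ W) → W = ⊥ ∨ W = ⊤) :
    ∃ (j : ℕ) (e : V ≃+ K), ¬ q ∣ j ∧ ∀ v, e (T v) = lam ^ j * e v :=
  have := Fact.mk d.hp
  letI : Module (ZMod p) V := AddCommGroup.zmodModule hV
  d.exists_iso_aux T hT hne hirr

end Cfsg.Agent.SchmidtUniv
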