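import Cfsg.Agent.SchmidtUniv.Structure

/-!
# The map of a minimal non-`p`-nilpotent group onto `K ⋊ Z/q^r`, and the order of its kernel
-/

namespace Cfsg.Agent.SchmidtUniv

open Subgroup
open scoped commutatorElement

universe v

/-- The homomorphism from `Z/n` sending the generator to `g`. -/
noncomputable def zmodHom {G : Type*} [Group G] (g : G) (n : ℕ) (hg : g ^ n = 1) :
    Multiplicative (ZMod n) →* G :=
  AddMonoidHom.toMultiplicativeLeft (ZMod.lift n ⟨zmultiplesHom (Additive G) (Additive.ofMul g),
    by simpa [zmultiplesHom_apply] using congrArg Additive.ofMul hg⟩)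

theorem zmodHom_natCast {G : Type*} [Group G] (g : G) (n : ℕ) (hg : g ^ n = 1) (i : ℕ) :
    zmodHom g n hg (Multiplicative.ofAdd (i : ZMod n)) = g ^ i := by
  have h : ((i : ℤ) : ZMod n) = (i : ZMod n) := Int.cast_natCast i
  rw [← h]
  change Additive.toMul (ZMod.lift n _ ((i : ℤ) : ZMod n)) = _
  rw [ZMod.lift_coe]
  simp [zmultiplesHom_apply]

variable {p q r t a : ℕ} {X : Type v} [Group X] [Finite X] [hp : Fact p.Prime] {P : Subgroup X} {y : X}
  {K : Type} [Field K] {lam : K}

omit [Finite X] hp in
theorem Split.cj_iterate_map (S : Split p q r X P y) (i : ℕ) (x w : P) :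
    (S.cj)^[i] ⁅x, w⁆ = ⁅(S.cj)^[i] x, (S.cj)^[i] w⁆ := by
  induction i with
  | zero => rfl
  | succ i ih => simp only [Function.iterate_succ_apply', ih, map_commutatorElement]

omit [Finite X] hp in
theorem Split.e_iterate (S : Split p q r X P y) (e : Additive (Abelianization P) ≃+ K)
    (he : ∀ x, e (Additive.ofMul (Abelianization.of (S.cj x))) =
      lam * e (Additive.ofMul (Abelianization.of x))) (i : ℕ) (x : P) :
    e (Additive.ofMul (Abelianization.of ((S.cj)^[i] x))) =
      lam ^ i * e (Additive.ofMul (Abelianization.of x)) := by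
  induction i with
  | zero => simp
  | succ i ih => rw [Function.iterate_succ_apply', he, ih, pow_succ', mul_assoc]

theorem Split.card_commutator_le (S : Split p q r X P y) (d : FieldData p q a K lam)
    (e : Additive (Abelianization P) ≃+ K)
    (he : ∀ x, e (Additive.ofMul (Abelianization.of (S.cj x))) =
      lam * e (Additive.ofMul (Abelianization.of x))) :
    Nat.card (commutator P) ≤ p ^ (if a % 2 = 1 then 0 else a / 2) := by
  have := d.finite
  have hcen := S.commutator_le_center d.hq d.hne
  have hfix : ∀ (i : ℕ) (x w : P), (S.cj)^[i] ⁅x, w⁆ = ⁅x, w⁆ := fun i x w =>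
    Function.iterate_fixed (S.cj_commutator _ (commutator_mem_commutator (mem_top x) (mem_top w))) i
  obtain ⟨s1, hs1⟩ : ∃ s1 : P, e (Additive.ofMul (Abelianization.of s1)) = 1 := by
    obtain ⟨x, hx⟩ := S.of_surjective (Additive.toMul (e.symm 1))
    exact ⟨x, by rw [hx, ofMul_toMul, e.apply_symm_apply]⟩
  let φ : P →* P :=
    { toFun := fun x => ⁅s1, x⁆
      map_one' := commutatorElement_one_right s1
      map_mul' := fun x w => Fusion.commutatorElement_mul_right_of_le_center hcen s1 x w }
  -- every commutator is a commutator with `s1`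
  have hR : ∀ x w : P, ⁅x, w⁆ ∈ φ.range := by
    let T : Subgroup P :=
      { carrier := {x | ∀ w, ⁅x, w⁆ ∈ φ.range}
        one_mem' := fun w => by rw [commutatorElement_one_left]; exact one_mem _
        mul_mem' := fun {x x'} hx hx' w => by
          rw [Fusion.commutatorElement_mul_left_of_le_center hcen]; exact mul_mem (hx w) (hx' w)
        inv_mem' := fun {x} hx w => by
          have h1 := Fusion.commutatorElement_mul_left_of_le_center hcen x⁻¹ x w
          rw [inv_mul_cancel, commutatorElement_one_left] at h1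
          rw [eq_inv_of_mul_eq_one_left h1.symm]; exact inv_mem (hx w) }
    have hT : T = ⊤ := by
      by_contra hne
      have hfx : S.cj s1 = s1 := by
        refine S.cj_fixed T (fun x hx w => ?_) hne s1 (fun w => ⟨w, rfl⟩)
        obtain ⟨w', rfl⟩ := S.cj_surjective w
        rw [← map_commutatorElement, S.cj_commutator _ (commutator_mem_commutator (mem_top x) (mem_top w'))]
        exact hx w'
      have h1 := he s1
      rw [hfx, hs1, mul_one] at h1
      exact d.hq.ne_one (d.hlam ▸ orderOf_eq_one_iff.mpr h1.symm)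
    exact fun x w => (hT ▸ mem_top x : x ∈ T) w
  have hle : commutator P ≤ φ.range := by
    rw [_root_.commutator_def]
    exact commutator_le.mpr fun x _ w _ => hR x w
  let E : P →* Multiplicative K := (AddMonoidHom.toMultiplicativeRight e.toAddMonoidHom).comp Abelianization.of
  have hE : ∀ x, E x = Multiplicative.ofAdd (e (Additive.ofMul (Abelianization.of x))) := fun x => rfl
  have hEs : Function.Surjective E := fun v => by
    obtain ⟨x, hx⟩ := S.of_surjective (Additive.toMul (e.symm (Multiplicative.toAdd v)))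
    exact ⟨x, by rw [hE, hx, ofMul_toMul, e.apply_symm_apply, ofAdd_toAdd]⟩
  have hEk : E.ker ≤ φ.ker := fun x hx => by
    rw [MonoidHom.mem_ker, hE, ofAdd_eq_one, e.map_eq_zero_iff, ofMul_eq_zero,
      ← MonoidHom.mem_ker, Abelianization.ker_of] at hx
    rw [MonoidHom.mem_ker]
    exact commutatorElement_eq_one_iff_mul_comm.mpr (mem_center_iff.mp (hcen hx) s1)
  let W : AddSubgroup K := Subgroup.toAddSubgroup' (φ.ker.map E)
  have hW : ∀ x : P, ⁅s1, x⁆ = 1 → e (Additive.ofMul (Abelianization.of x)) ∈ W := fun x hx =>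
    (⟨x, hx, rfl⟩ : E x ∈ φ.ker.map E)
  have hcardW : Nat.card W * Nat.card φ.range = p ^ a := by
    rw [← Subgroup.index_ker, ← index_map_eq (H := φ.ker) hEs hEk,
      show Nat.card W = Nat.card (φ.ker.map E) from rfl, card_mul_index,
      Nat.card_congr Multiplicative.toAdd, d.hcard]
  have hhalf := d.half d.hlam W (hs1 ▸ hW s1 (commutatorElement_self s1)) fun i => by
    set z := (S.cj)^[(q - 1) * i] s1 with hz
    have hqq : i + (q - 1) * i = q * i := by
      conv_rhs => rw [← Nat.sub_add_cancel d.hq.one_le, add_mul, one_mul, add_comm]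
    have hz1 : (S.cj)^[i] z = s1 := by
      rw [hz, ← Function.iterate_add_apply, hqq, Function.iterate_mul]
      exact Function.iterate_fixed (S.cj_iterate_q s1) i
    have hlz : e (Additive.ofMul (Abelianization.of z)) = lam⁻¹ ^ i := by
      rw [hz, S.e_iterate e he, hs1, mul_one, inv_pow]
      refine eq_inv_of_mul_eq_one_left ?_
      rw [← pow_add, add_comm, hqq, pow_mul, ← d.hlam, pow_orderOf_eq_one, one_pow]
    have h1 : ⁅s1, (S.cj)^[i] s1 * z⁆ = 1 := by
      rw [Fusion.commutatorElement_mul_right_of_le_center hcen]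
      have h2 : ⁅s1, z⁆ = ⁅(S.cj)^[i] s1, s1⁆ := by
        conv_lhs => rw [← hfix i s1 z, S.cj_iterate_map, hz1]
      rw [h2, ← commutatorElement_inv s1, mul_inv_cancel]
    have h3 := hW _ h1
    rwa [map_mul, ofMul_mul, map_add, S.e_iterate e he, hs1, mul_one, hlz] at h3
  have hcN := Nat.le_trans (Nat.mul_le_mul hhalf (card_le_of_le hle)) hcardW.le
  obtain ⟨m, hm⟩ := (S.isP.to_subgroup (commutator P)).exists_card_eq
  rw [hm, ← pow_add] at hcN
  rw [hm]
  refine Nat.pow_le_pow_right d.hp.pos ?_
  have := (Nat.pow_le_pow_iff_right d.hp.one_lt).mp hcN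
  split_ifs at this ⊢ <;> omega

theorem Split.exists_proj (S : Split p q r X P y) {u : Kˣ} (d : FieldData p q a K (u : K))
    {n : ℕ} (hn : n = q ^ r) (hu : u ^ n = 1) (e : Additive (Abelianization P) ≃+ K)
    (he : ∀ x, e (Additive.ofMul (Abelianization.of (S.cj x))) =
      (u : K) * e (Additive.ofMul (Abelianization.of x))) :
    ∃ π : X →* Base u n hu, Function.Surjective π ∧ π.ker ≤ center X ∧ IsPGroup p π.ker ∧
      Nat.card π.ker ≤ p ^ (if a % 2 = 1 then 0 else a / 2) := by
  have := d.finite
  have : NeZero n := ⟨hn ▸ (pow_pos d.hq.pos r).ne'⟩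
  set N : Subgroup X := (commutator P).map P.subtype with hN
  have hNc : N ≤ center X := by
    rintro _ ⟨c, hc, rfl⟩
    have h1 : P ⊔ zpowers y ≤ centralizer ({(c : X)} : Set X) := by
      refine sup_le (fun x hx => ?_) (zpowers_le.mpr ?_)
      · exact mem_centralizer_singleton_iff.mpr
          (congrArg Subtype.val (mem_center_iff.mp (S.commutator_le_center d.hq d.hne hc) ⟨x, hx⟩))
      · have h2 := congrArg Subtype.val (S.cj_commutator c hc)
        rw [S.coe_cj] at h2
        exact mem_centralizer_singleton_iff.mpr (mul_inv_eq_iff_eq_mul.mp h2)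
    rw [S.sup] at h1
    exact mem_center_iff.mpr fun x => mem_centralizer_singleton_iff.mp (h1 (mem_top x))
  have : N.Normal := ⟨fun c hc g => by rw [mem_center_iff.mp (hNc hc) g, mul_inv_cancel_right]; exact hc⟩
  let g : Abelianization P →* X ⧸ N :=
    QuotientGroup.lift (commutator P) ((QuotientGroup.mk' N).comp P.subtype) fun c hc =>
      (QuotientGroup.eq_one_iff _).mpr (mem_map_of_mem P.subtype hc)
  have hg : ∀ x : P, g (Abelianization.of x) = QuotientGroup.mk' N (x : X) := fun x => rfl
  let f1 : Multiplicative K →* X ⧸ N := g.comp (AddMonoidHom.toMultiplicativeLeft e.symm.toAddMonoidHom)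
  have hf1 : ∀ x : P, f1 (Multiplicative.ofAdd (e (Additive.ofMul (Abelianization.of x)))) =
      QuotientGroup.mk' N (x : X) := fun x => by
    change g (Additive.toMul (e.symm (e _))) = _
    rw [e.symm_apply_apply, toMul_ofMul, hg]
  have hyn : QuotientGroup.mk' N y ^ n = 1 := by
    rw [← map_pow, hn, ← S.order, pow_orderOf_eq_one, map_one]
  let ρ : Base u n hu →* X ⧸ N := SemidirectProduct.lift f1 (zmodHom _ n hyn) fun z => by
    refine MonoidHom.ext fun v => ?_
    obtain ⟨z, rfl⟩ := Multiplicative.ofAdd.surjective z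
    obtain ⟨v, rfl⟩ := Multiplicative.ofAdd.surjective v
    obtain ⟨x, hx⟩ := S.of_surjective (Additive.toMul (e.symm v))
    have hv : v = e (Additive.ofMul (Abelianization.of x)) := by rw [hx, ofMul_toMul, e.apply_symm_apply]
    simp only [MonoidHom.comp_apply, MulEquiv.coe_toMonoidHom, MulAut.conj_apply]
    rw [← ZMod.natCast_zmod_val z, chi_natCast, zmodHom_natCast, scale_apply, hv,
      Units.val_pow_eq_pow_val, ← S.e_iterate e he, hf1, hf1, S.coe_cj_iterate]
    simp only [map_mul, map_inv, map_pow]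
  have hsur : Function.Surjective ρ := by
    have h1 : P ⊔ zpowers y ≤ ρ.range.comap (QuotientGroup.mk' N) := by
      refine sup_le (fun x hx => ?_) (zpowers_le.mpr ?_)
      · exact ⟨SemidirectProduct.inl
          (Multiplicative.ofAdd (e (Additive.ofMul (Abelianization.of (⟨x, hx⟩ : P))))), by
          rw [SemidirectProduct.lift_inl, hf1]⟩
      · exact ⟨SemidirectProduct.inr (Multiplicative.ofAdd ((1 : ℕ) : ZMod n)), by
          rw [SemidirectProduct.lift_inr, zmodHom_natCast, pow_one]⟩
    rw [S.sup] at h1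
    intro w
    obtain ⟨x, rfl⟩ := QuotientGroup.mk'_surjective N w
    exact h1 (mem_top x)
  have hXc : Nat.card (X ⧸ N) = Nat.card K * n := by
    have hinf : zpowers y ⊓ P = ⊥ := by
      refine inf_eq_bot_of_coprime ?_
      obtain ⟨m, hm⟩ := S.isP.exists_card_eq
      rw [Nat.card_zpowers, S.order, hm]
      exact Nat.Coprime.pow _ _ ((Nat.coprime_primes d.hq d.hp).mpr d.hne.symm)
    have := S.normal
    have h1 : Nat.card X = n * Nat.card P := by
      rw [← card_top (G := X), ← S.sup, sup_comm, Core.card_sup_of_inf_eq_bot hinf, Nat.card_zpowers,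
        S.order, hn]
    have h2 : Nat.card P = Nat.card K * Nat.card (commutator P) := by
      rw [card_eq_card_quotient_mul_card_subgroup (commutator P)]
      exact congrArg (· * _) (Nat.card_congr (Additive.ofMul.trans e.toEquiv))
    have h3 := card_eq_card_quotient_mul_card_subgroup N
    rw [h1, h2, hN, card_map_of_injective P.subtype_injective, ← mul_assoc, mul_comm n] at h3
    exact (Nat.eq_of_mul_eq_mul_right Nat.card_pos h3).symm
  have hbij : Function.Bijective ρ :=
    hsur.bijective_of_nat_card_le (by rw [hXc, base_card])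
  refine ⟨(MulEquiv.ofBijective ρ hbij).symm.toMonoidHom.comp (QuotientGroup.mk' N),
    (MulEquiv.ofBijective ρ hbij).symm.surjective.comp (QuotientGroup.mk'_surjective N), ?_⟩
  have hker : ((MulEquiv.ofBijective ρ hbij).symm.toMonoidHom.comp (QuotientGroup.mk' N)).ker = N := by
    ext x
    simp [MonoidHom.mem_ker, QuotientGroup.eq_one_iff]
  rw [hker]
  refine ⟨hNc, S.isP.to_le (map_subtype_le _), ?_⟩
  rw [hN, card_map_of_injective P.subtype_injective]
  exact S.card_commutator_le d e he

/-- The structure of a minimal non-`p`-nilpotent group of order `p ^ t * q ^ r`. -/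
theorem exists_structure {u : Kˣ} (d : FieldData p q a K (u : K)) {n : ℕ} (hn : n = q ^ r)
    (hu : u ^ n = 1) (hr : 1 ≤ r) (h1 : ¬ HasNormalPComplement p X)
    (h2 : ∀ H : Subgroup X, H ≠ ⊤ → HasNormalPComplement p H) (hcard : Nat.card X = p ^ t * q ^ r) :
    ∃ π : X →* Base u n hu, Function.Surjective π ∧ π.ker ≤ center X ∧ IsPGroup p π.ker ∧
      Nat.card π.ker ≤ p ^ (if a % 2 = 1 then 0 else a / 2) := by
  obtain ⟨P, y, S, hS⟩ := exists_split d.hq d.hne hr h1 h2 hcard
  obtain ⟨j, e, hj, he⟩ := S.exists_iso d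
  obtain ⟨i, hi, hiq⟩ : ∃ i : ℕ, (u : K) ^ (j * i) = (u : K) ∧ ¬ q ∣ i := by
    obtain ⟨i, -, hi⟩ := Nat.exists_mul_mod_eq_one_of_coprime
      ((d.hq.coprime_iff_not_dvd.mpr hj).symm) d.hq.one_lt
    refine ⟨i, ?_, fun hdvd => ?_⟩
    · rw [pow_eq_pow_mod (j * i) (d.hlam ▸ pow_orderOf_eq_one (u : K)), hi, pow_one]
    · rw [Nat.mod_eq_zero_of_dvd (hdvd.mul_left j)] at hi
      exact zero_ne_one hi
  have hcj : ∀ x, (hS i hiq).cj x = (S.cj)^[i] x := fun x => Subtype.ext (by
    rw [Split.coe_cj, S.coe_cj_iterate])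
  refine (hS i hiq).exists_proj d hn hu e fun x => ?_
  rw [hcj]
  have key : ∀ k : ℕ, e (Additive.ofMul (Abelianization.of ((S.cj)^[k] x))) =
      (u : K) ^ (j * k) * e (Additive.ofMul (Abelianization.of x)) := by
    intro k
    induction k with
    | zero => simp
    | succ k ih => rw [Function.iterate_succ_apply', he, ih, ← mul_assoc, ← pow_add, mul_add_one, add_comm]
  rw [key, hi]

end Cfsg.Agent.SchmidtUniv
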