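import Cfsg.Agent.SchmidtUniv.Data
import Cfsg.Agent.SchmidtUniv.Groups
import Cfsg.Agent.SchmidtUniv.Linear
import Mathlib.GroupTheory.Abelianization.Defs

/-!
# Every minimal non-`p`-nilpotent group of order `p ^ t * q ^ r` maps onto `K ⋊ Z/q^r`
-/

namespace Cfsg.Agent.SchmidtUniv

open Subgroup
open scoped commutatorElement

universe v

variable {p q r t a : ℕ} {X : Type v} [Group X] {P : Subgroup X} {y : X}

/-- Conjugation by `y` on `P`. -/
def Split.cj (S : Split p q r X P y) : P →* P where
  toFun x := ⟨y * x * y⁻¹, S.normal.conj_mem x x.2 y⟩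
  map_one' := Subtype.ext (by simp)
  map_mul' _ _ := Subtype.ext (by simp [mul_assoc])

theorem Split.coe_cj (S : Split p q r X P y) (x : P) : (S.cj x : X) = y * x * y⁻¹ := rfl

theorem Split.coe_cj_iterate (S : Split p q r X P y) (i : ℕ) (x : P) :
    ((S.cj)^[i] x : X) = y ^ i * x * (y ^ i)⁻¹ := by
  induction i with
  | zero => simp
  | succ i ih => rw [Function.iterate_succ_apply', S.coe_cj, ih, pow_succ']; group

theorem Split.cj_iterate_q (S : Split p q r X P y) (x : P) : (S.cj)^[q] x = x :=
  Subtype.ext (by rw [S.coe_cj_iterate, S.pow_q x x.2, mul_inv_cancel_right])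

theorem Split.cj_fixed (S : Split p q r X P y) (R : Subgroup P) (hR : ∀ x ∈ R, S.cj x ∈ R)
    (hne : R ≠ ⊤) : ∀ x ∈ R, S.cj x = x := by
  intro x hx
  refine Subtype.ext ?_
  rw [S.coe_cj, S.proper (R.map P.subtype) (map_subtype_le R) (by
    rintro _ ⟨w, hw, rfl⟩
    exact ⟨S.cj w, hR w hw, rfl⟩) (fun e => hne ?_) x ⟨x, hx, rfl⟩, mul_inv_cancel_right]
  refine map_injective P.subtype_injective ?_
  rw [e, ← MonoidHom.range_eq_map, range_subtype]

variable [Finite X] [hp : Fact p.Prime]

theorem Split.cj_surjective (S : Split p q r X P y) : Function.Surjective S.cj :=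
  Finite.surjective_of_injective fun x w h => Subtype.ext (by
    simpa [S.coe_cj] using congrArg Subtype.val h)

/-- An invariant subgroup containing all `x⁻¹ * y x y⁻¹` is everything. -/
theorem Split.gen (S : Split p q r X P y) (hq : q.Prime) (hpq : p ≠ q) (R : Subgroup P)
    (hR : ∀ x ∈ R, S.cj x ∈ R) (hd : ∀ x, x⁻¹ * S.cj x ∈ R) : R = ⊤ := by
  by_contra hne
  obtain ⟨x, hx, hmoved⟩ := S.moved
  refine hmoved ?_
  set w : P := ⟨x, hx⟩
  set d := w⁻¹ * S.cj w with hd'
  have hfix : S.cj d = d := S.cj_fixed R hR hne d (hd w)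
  have hit : ∀ i : ℕ, (S.cj)^[i] w = w * d ^ i := by
    intro i
    induction i with
    | zero => simp
    | succ i ih =>
      rw [Function.iterate_succ_apply', ih, map_mul, map_pow, hfix, pow_succ', ← mul_assoc, hd',
        mul_inv_cancel_left]
  have h1 : d ^ q = 1 := by
    have := hit q
    rw [S.cj_iterate_q] at this
    exact left_eq_mul.mp this
  obtain ⟨k, hk⟩ := IsPGroup.iff_orderOf.mp S.isP d
  have hq1 := orderOf_dvd_of_pow_eq_one h1
  rw [hk] at hq1
  have hk0 : k = 0 := by
    by_contra hk0
    exact hpq ((Nat.prime_dvd_prime_iff_eq hp.out hq).mp ((dvd_pow_self p hk0).trans hq1))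
  rw [hk0, pow_zero, orderOf_eq_one_iff, hd', inv_mul_eq_one] at hk
  have h2 := congrArg Subtype.val hk
  exact (eq_mul_inv_iff_mul_eq.mp h2).symm

theorem Split.nontrivial (S : Split p q r X P y) : Nontrivial P := by
  obtain ⟨x, hx, hmoved⟩ := S.moved
  refine ⟨⟨⟨x, hx⟩, 1, fun e => hmoved ?_⟩⟩
  have h1 : x = 1 := congrArg Subtype.val e
  rw [h1, mul_one, one_mul]

theorem Split.frattini_ne_top (S : Split p q r X P y) : frattini P ≠ ⊤ := by
  have := S.nontrivial
  obtain ⟨M, hM, -⟩ := (eq_top_or_exists_le_coatom (⊥ : Subgroup P)).resolve_left bot_ne_top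
  exact fun h => hM.1 (top_le_iff.mp (h ▸ frattini_le_coatom hM))

theorem Split.commutator_ne_top (S : Split p q r X P y) : commutator P ≠ ⊤ := fun h => by
  have := S.isP.isNilpotent
  exact S.frattini_ne_top (top_le_iff.mp (h ▸ Core.commutator_le_frattini))

theorem Split.cj_mem_commutator (S : Split p q r X P y) : ∀ x ∈ commutator P, S.cj x ∈ commutator P := by
  intro x hx
  have h1 : (commutator P).map S.cj ≤ commutator P := by
    rw [_root_.commutator_def, map_commutator]
    exact commutator_mono le_top le_top
  exact h1 (mem_map_of_mem _ hx)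

theorem Split.cj_commutator (S : Split p q r X P y) : ∀ x ∈ commutator P, S.cj x = x :=
  S.cj_fixed _ S.cj_mem_commutator S.commutator_ne_top

theorem Split.commutator_le_center (S : Split p q r X P y) (hq : q.Prime) (hpq : p ≠ q) :
    commutator P ≤ center P := by
  intro n hn
  have key : centralizer ({n} : Set P) = ⊤ := by
    refine S.gen hq hpq _ (fun x hx => ?_) fun x => mem_centralizer_singleton_iff.mpr ?_
    · have h := congrArg S.cj (mem_centralizer_singleton_iff.mp hx)
      rw [map_mul, map_mul, S.cj_commutator n hn] at h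
      exact mem_centralizer_singleton_iff.mpr h
    · have hm : x * n * x⁻¹ ∈ commutator P := (inferInstance : (commutator P).Normal).conj_mem n hn x
      have h := S.cj_commutator _ hm
      rw [map_mul, map_mul, map_inv, S.cj_commutator n hn] at h
      calc x⁻¹ * S.cj x * n = x⁻¹ * (S.cj x * n * (S.cj x)⁻¹) * S.cj x := by group
        _ = x⁻¹ * (x * n * x⁻¹) * S.cj x := by rw [h]
        _ = n * (x⁻¹ * S.cj x) := by group
  exact mem_center_iff.mpr fun x => (mem_centralizer_singleton_iff.mp (key ▸ mem_top x : x ∈ centralizer ({n} : Set P)))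

theorem Split.pow_mem_commutator (S : Split p q r X P y) (hq : q.Prime) (hpq : p ≠ q) (x : P) :
    x ^ p ∈ commutator P := by
  let f : P →* Abelianization P :=
    { toFun := fun x => Abelianization.of x ^ p
      map_one' := by simp
      map_mul' := fun x w => by rw [map_mul, mul_pow] }
  have hker : ∀ x, x ∈ f.ker ↔ x ^ p ∈ commutator P := fun x => by
    rw [MonoidHom.mem_ker, ← Abelianization.ker_of, MonoidHom.mem_ker, map_pow]; rfl
  refine (hker x).mp ?_
  suffices h : f.ker = ⊤ by rw [h]; exact mem_top x
  have hW : ∀ x : P, S.cj (x ^ p) = x ^ p := by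
    intro x
    refine S.cj_fixed (frattini P) (fun z hz => ?_) S.frattini_ne_top _ (Core.pow_mem_frattini S.isP x)
    exact Core.map_frattini_le_of_surjective S.cj_surjective (mem_map_of_mem _ hz)
  refine S.gen hq hpq _ (fun z hz => ?_) fun z => ?_
  · rw [hker] at hz ⊢
    rw [← map_pow]
    exact S.cj_mem_commutator _ hz
  · rw [MonoidHom.mem_ker]
    change Abelianization.of (z⁻¹ * S.cj z) ^ p = 1
    rw [map_mul, map_inv, mul_pow, inv_pow, ← map_pow, ← map_pow Abelianization.of (S.cj z),
      ← map_pow S.cj, hW, inv_mul_cancel]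

theorem Split.commutator_pow (S : Split p q r X P y) (hq : q.Prime) (hpq : p ≠ q) (x : P)
    (hx : x ∈ commutator P) : x ^ p = 1 := by
  have h := S.commutator_le_center hq hpq
  rw [commutator_eq_closure] at hx
  induction hx using closure_induction with
  | mem z hz =>
    obtain ⟨u, w, rfl⟩ := hz
    rw [← Fusion.commutatorElement_pow_left_of_le_center h, commutatorElement_eq_one_iff_mul_comm]
    exact (mem_center_iff.mp (h (S.pow_mem_commutator hq hpq u)) w).symm
  | one => exact one_pow p
  | mul u w hu hw ihu ihw =>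
    have huw : Commute u w := mem_center_iff.mp (h (commutator_eq_closure P ▸ hw)) u
    rw [huw.mul_pow, ihu, ihw, one_mul]
  | inv u _ ihu => rw [inv_pow, ihu, inv_one]

/-- The operator on `P/P'`. -/
noncomputable def Split.op (S : Split p q r X P y) : Abelianization P →* Abelianization P :=
  Abelianization.map S.cj

theorem Split.op_of (S : Split p q r X P y) (x : P) :
    S.op (Abelianization.of x) = Abelianization.of (S.cj x) := Abelianization.map_of S.cj x

theorem Split.of_surjective (S : Split p q r X P y) :
    Function.Surjective (Abelianization.of : P → Abelianization P) := fun v => Quotient.exists_rep v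

theorem Split.op_iterate (S : Split p q r X P y) (i : ℕ) (x : P) :
    (S.op)^[i] (Abelianization.of x) = Abelianization.of ((S.cj)^[i] x) := by
  induction i with
  | zero => rfl
  | succ i ih => rw [Function.iterate_succ_apply', Function.iterate_succ_apply', ih, S.op_of]

theorem Split.irreducible (S : Split p q r X P y) (hq : q.Prime) (hpq : p ≠ q)
    (W : Subgroup (Abelianization P)) (hW : ∀ w ∈ W, S.op w ∈ W) : W = ⊥ ∨ W = ⊤ := by
  let δ : Abelianization P →* Abelianization P :=
    { toFun := fun v => v⁻¹ * S.op v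
      map_one' := by simp
      map_mul' := fun v w => by rw [map_mul, mul_inv, mul_mul_mul_comm] }
  have hδs : Function.Surjective δ := by
    have hinv : ∀ v ∈ δ.range, S.op v ∈ δ.range := by
      rintro _ ⟨v, rfl⟩
      exact ⟨S.op v, by change _ = S.op (v⁻¹ * S.op v); rw [map_mul, map_inv]; rfl⟩
    have htop := S.gen hq hpq (δ.range.comap Abelianization.of) (fun x hx => by
      rw [mem_comap, ← S.op_of]; exact hinv _ hx) fun x => by
      refine ⟨Abelianization.of x, ?_⟩
      change (Abelianization.of x)⁻¹ * S.op (Abelianization.of x) = _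
      rw [S.op_of, map_mul, map_inv]
    intro v
    obtain ⟨x, rfl⟩ := S.of_surjective v
    exact (htop ▸ mem_top x : x ∈ δ.range.comap Abelianization.of)
  by_cases htop : W.comap Abelianization.of = ⊤
  · refine Or.inr (eq_top_iff.mpr fun v _ => ?_)
    obtain ⟨x, rfl⟩ := S.of_surjective v
    exact (htop ▸ mem_top x : x ∈ W.comap Abelianization.of)
  · refine Or.inl (eq_bot_iff.mpr fun v hv => mem_bot.mpr ?_)
    obtain ⟨x, rfl⟩ := S.of_surjective v
    have h1 := S.cj_fixed _ (fun z hz => by rw [mem_comap, ← S.op_of]; exact hW _ hz) htop x hv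
    refine Finite.injective_iff_surjective.mpr hδs ?_
    change (Abelianization.of x)⁻¹ * S.op (Abelianization.of x) = δ 1
    rw [S.op_of, h1, inv_mul_cancel, map_one]

variable {K : Type} [Field K] {lam : K}

/-- The operator is multiplication by some root of unity. -/
theorem Split.exists_iso (S : Split p q r X P y) (d : FieldData p q a K lam) :
    ∃ (j : ℕ) (e : Additive (Abelianization P) ≃+ K), ¬ q ∣ j ∧
      ∀ x : P, e (Additive.ofMul (Abelianization.of (S.cj x))) =
        lam ^ j * e (Additive.ofMul (Abelianization.of x)) := by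
  have hnt : Nontrivial (Abelianization P) := by
    by_contra hn
    rw [not_nontrivial_iff_subsingleton] at hn
    refine S.commutator_ne_top (eq_top_iff.mpr fun x _ => ?_)
    rw [← Abelianization.ker_of, MonoidHom.mem_ker]
    exact Subsingleton.elim _ _
  obtain ⟨j, e, hj, he⟩ := d.exists_iso (V := Additive (Abelianization P)) (fun v => by
      obtain ⟨v, rfl⟩ := Additive.ofMul.surjective v
      obtain ⟨x, rfl⟩ := S.of_surjective v
      rw [← ofMul_pow, ← map_pow]
      refine congrArg Additive.ofMul ?_
      rw [← MonoidHom.mem_ker, Abelianization.ker_of]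
      exact S.pow_mem_commutator d.hq d.hne x)
    (MonoidHom.toAdditive S.op) (fun v => by
      obtain ⟨v, rfl⟩ := Additive.ofMul.surjective v
      obtain ⟨x, rfl⟩ := S.of_surjective v
      change (Additive.ofMul ((S.op)^[q] (Abelianization.of x))) = _
      rw [S.op_iterate, S.cj_iterate_q]) (by
      by_contra hcon
      push Not at hcon
      refine S.commutator_ne_top (S.gen d.hq d.hne _ S.cj_mem_commutator fun x => ?_)
      rw [← Abelianization.ker_of, MonoidHom.mem_ker, map_mul, map_inv, ← S.op_of, inv_mul_eq_one]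
      exact (congrArg Additive.toMul (hcon (Additive.ofMul (Abelianization.of x)))).symm)
    fun W hW => by
      rcases S.irreducible d.hq d.hne (AddSubgroup.toSubgroup' W) (fun w hw => hW _ hw) with h | h
      · left; exact AddSubgroup.toSubgroup'.injective (h.trans (OrderIso.map_bot _).symm)
      · right; exact AddSubgroup.toSubgroup'.injective (h.trans (OrderIso.map_top _).symm)
  refine ⟨j, e, hj, fun x => ?_⟩
  rw [← S.op_of]
  exact he _

end Cfsg.Agent.SchmidtUniv
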